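import Groth.Prelude.Def_DerCA

/-!
Formal properties of levelwise maps of inverse systems which are pro-isomorphisms.
-/

universe v u v' u'

open CategoryTheory Opposite

namespace Groth.Agent.KFlat.Pro

variable {C : Type u} [Category.{v} C] {D : Type u'} [Category.{v'} D] {X Y Z : ARSys.PS C}

lemma tr_comp (X : ARSys.PS C) {n j m : ℕ} (h : n ≤ j) (h' : j ≤ m) :
    ARSys.tr X h' ≫ ARSys.tr X h = ARSys.tr X (h.trans h') := by
  simp only [ARSys.tr, ← X.map_comp]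
  rfl

lemma tr_comp_assoc (X : ARSys.PS C) {n j m : ℕ} (h : n ≤ j) (h' : j ≤ m) {W : C} (g : X.obj (op n) ⟶ W) :
    ARSys.tr X h' ≫ ARSys.tr X h ≫ g = ARSys.tr X (h.trans h') ≫ g := by
  rw [← Category.assoc, tr_comp]

lemma tr_naturality (a : X ⟶ Y) {n m : ℕ} (h : n ≤ m) :
    ARSys.tr X h ≫ a.app (op n) = a.app (op m) ≫ ARSys.tr Y h :=
  a.naturality _

lemma tr_naturality_assoc (a : X ⟶ Y) {n m : ℕ} (h : n ≤ m) {W : C} (g : Y.obj (op n) ⟶ W) :
    ARSys.tr X h ≫ a.app (op n) ≫ g = a.app (op m) ≫ ARSys.tr Y h ≫ g := by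
  rw [← Category.assoc, tr_naturality, Category.assoc]

/-- Levelwise isomorphisms are pro-isomorphisms. -/
lemma of_isIso (a : X ⟶ Y) (h : ∀ n : ℕ, IsIso (a.app (op n))) : DerCA.IsProIso a := fun n => by
  have := h n
  exact ⟨n, le_rfl, inv (a.app (op n)), by simp [ARSys.tr], by simp [ARSys.tr]⟩

lemma of_iso (e : X ≅ Y) : DerCA.IsProIso e.hom := of_isIso _ fun _ => inferInstance

/-- Pro-isomorphisms compose. -/
lemma comp {a : X ⟶ Y} {a' : Y ⟶ Z} (ha : DerCA.IsProIso a) (ha' : DerCA.IsProIso a') :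
    DerCA.IsProIso (a ≫ a') := fun n => by
  obtain ⟨j, hj, b, hb₁, hb₂⟩ := ha n
  obtain ⟨m, hm, b', hb'₁, hb'₂⟩ := ha' j
  refine ⟨m, hj.trans hm, b' ≫ b, ?_, ?_⟩
  · calc (a ≫ a').app (op m) ≫ b' ≫ b = a.app (op m) ≫ (a'.app (op m) ≫ b') ≫ b := by simp
      _ = (a.app (op m) ≫ ARSys.tr Y hm) ≫ b := by rw [hb'₁, Category.assoc]
      _ = ARSys.tr X hm ≫ a.app (op j) ≫ b := by rw [← tr_naturality, Category.assoc]
      _ = ARSys.tr X (hj.trans hm) := by rw [hb₁, tr_comp]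
  · calc (b' ≫ b) ≫ (a ≫ a').app (op n) = b' ≫ (b ≫ a.app (op n)) ≫ a'.app (op n) := by simp
      _ = b' ≫ a'.app (op j) ≫ ARSys.tr Z hj := by rw [hb₂, tr_naturality]
      _ = ARSys.tr Z (hj.trans hm) := by rw [← Category.assoc, hb'₂, tr_comp]

/-- Two out of three, left cancellation. -/
lemma of_comp_left {a : X ⟶ Y} {a' : Y ⟶ Z} (ha : DerCA.IsProIso a) (hc : DerCA.IsProIso (a ≫ a')) :
    DerCA.IsProIso a' := fun n => by
  obtain ⟨j, hj, c, hc₁, hc₂⟩ := hc n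
  obtain ⟨m, hm, b, _, hb₂⟩ := ha j
  simp only [NatTrans.comp_app, Category.assoc] at hc₁ hc₂
  refine ⟨m, hj.trans hm, ARSys.tr Z hm ≫ c ≫ a.app (op n), ?_, ?_⟩
  · rw [← tr_naturality_assoc, ← hb₂, Category.assoc, reassoc_of% hc₁, tr_naturality, ← Category.assoc, hb₂,
      tr_comp]
  · simp only [Category.assoc]
    rw [hc₂, tr_comp]

/-- Two out of three, right cancellation. -/
lemma of_comp_right {a : X ⟶ Y} {a' : Y ⟶ Z} (ha' : DerCA.IsProIso a') (hc : DerCA.IsProIso (a ≫ a')) :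
    DerCA.IsProIso a := fun n => by
  obtain ⟨k, hk, b', hb'₁, _⟩ := ha' n
  obtain ⟨j, hj, c, hc₁, hc₂⟩ := hc k
  simp only [NatTrans.comp_app, Category.assoc] at hc₁ hc₂
  refine ⟨j, hk.trans hj, a'.app (op j) ≫ c ≫ ARSys.tr X hk, ?_, ?_⟩
  · rw [reassoc_of% hc₁, tr_comp]
  · simp only [Category.assoc]
    rw [tr_naturality, ← hb'₁, reassoc_of% hc₂, ← Category.assoc, ← tr_naturality, Category.assoc, hb'₁, tr_comp]

/-- A pro-isomorphism stays one after composing with a levelwise isomorphism. -/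
lemma iff_of_iso {X' Y' : ARSys.PS C} (e : X ≅ X') (e' : Y ≅ Y') {a : X ⟶ Y} {a' : X' ⟶ Y'}
    (w : a ≫ e'.hom = e.hom ≫ a') (ha : DerCA.IsProIso a) : DerCA.IsProIso a' :=
  of_comp_left (of_iso e) (w ▸ comp ha (of_iso e'))

/-- Functors preserve pro-isomorphisms. -/
lemma map (F : C ⥤ D) {a : X ⟶ Y} (ha : DerCA.IsProIso a) : DerCA.IsProIso (Functor.whiskerRight a F) := fun n => by
  obtain ⟨m, h, b, h₁, h₂⟩ := ha n
  refine ⟨m, h, F.map b, ?_, ?_⟩
  · exact (F.map_comp _ _).symm.trans (congrArg F.map h₁)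
  · exact (F.map_comp _ _).symm.trans (congrArg F.map h₂)

/-- Pairing with the identity of another system preserves pro-isomorphisms. -/
lemma pair (W : ARSys.PS D) {a : X ⟶ Y} (ha : DerCA.IsProIso a) :
    DerCA.IsProIso (show X.prod' W ⟶ Y.prod' W from
      { app := fun n => Prod.mkHom (a.app n) (𝟙 (W.obj n))
        naturality := fun n m f => Prod.ext (a.naturality f) (by simp) }) := fun n => by
  obtain ⟨m, h, b, h₁, h₂⟩ := ha n
  exact ⟨m, h, Prod.mkHom b (ARSys.tr W h), Prod.ext h₁ (Category.id_comp _), Prod.ext h₂ (Category.comp_id _)⟩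

end Groth.Agent.KFlat.Pro
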