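import Groth.Agent.KFlat.Pro.Main
import Groth.Agent.KFlat.Flat
import Groth.Agent.KFlat.Mon.Braided
import Mathlib.Algebra.Homology.DerivedCategory.ShortExact

/-!
`I^n M ⟶ M` factors through `I ⊗^L M ⟶ M` for large `n`.
-/

universe u

open CategoryTheory CategoryTheory.Limits MonoidalCategory HomologicalComplex Opposite
attribute [local instance] HasDerivedCategory.standard

namespace Groth.Agent.KFlat.Pro

variable {A : Type u} [CommRing A]

/-- The functor `M ↦ M[0]`. -/
noncomputable abbrev sg (A : Type u) [CommRing A] : ModuleCat.{u} A ⥤ DRing.Cx A :=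
  single (ModuleCat.{u} A) (ComplexShape.up ℤ) 0

lemma singleX_natural (P : DRing.Cx A) {M N : ModuleCat.{u} A} (f : M ⟶ N) (p : ℤ) :
    (singleX (curriedTensor (ModuleCat.{u} A)) P M p).hom ≫ (P ◁ (sg A).map f).f p =
      P.X p ◁ f ≫ (singleX (curriedTensor (ModuleCat.{u} A)) P N p).hom := by
  dsimp [singleX]
  rw [Category.assoc]
  erw [ι_whiskerLeft]
  rw [← MonoidalCategory.whiskerLeft_comp_assoc, ← MonoidalCategory.whiskerLeft_comp_assoc, single_map_f_self,
    Iso.inv_hom_id_assoc]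

lemma shortExact_tensor_single (P : DRing.Cx A) (hP : TermFlat (curriedTensor (ModuleCat.{u} A)) P)
    (S : ShortComplex (ModuleCat.{u} A)) (hS : S.ShortExact) :
    ((S.map (sg A)).map (tensR (curriedTensor (ModuleCat.{u} A)) P)).ShortExact := by
  refine shortExact_of_degreewise_shortExact _ fun p => ?_
  have hf : ((curriedTensor (ModuleCat.{u} A)).flip.obj (P.X p)).PreservesHomology :=
    IsFlatObj.preservesHomology _ (hP p)
  let e₀ : (curriedTensor (ModuleCat.{u} A)).flip.obj (P.X p) ≅ tensorLeft (P.X p) :=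
    NatIso.ofComponents (fun X => β_ X (P.X p)) (fun f => BraidedCategory.braiding_naturality_left f (P.X p))
  have h₁ : (S.map (tensorLeft (P.X p))).ShortExact :=
    ShortComplex.shortExact_of_iso (S.mapNatIso e₀) (by
      have := Functor.preservesMonomorphisms_of_map_exact ((curriedTensor (ModuleCat.{u} A)).flip.obj (P.X p)) (hP p)
      have hm := hS.mono_f
      have he := hS.epi_g
      have : PreservesColimit (parallelPair S.f 0) ((curriedTensor (ModuleCat.{u} A)).flip.obj (P.X p)) :=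
        Functor.PreservesHomology.preservesCokernel _ _
      have := Functor.preservesEpimorphisms_of_map_exact ((curriedTensor (ModuleCat.{u} A)).flip.obj (P.X p)) (hP p)
      exact { exact := hS.exact.map _, mono_f := inferInstanceAs (Mono (((curriedTensor (ModuleCat.{u} A)).flip.obj (P.X p)).map S.f)), epi_g := inferInstanceAs (Epi (((curriedTensor (ModuleCat.{u} A)).flip.obj (P.X p)).map S.g)) })
  refine ShortComplex.shortExact_of_iso ?_ h₁
  exact ShortComplex.isoMk (singleX (curriedTensor (ModuleCat.{u} A)) P S.X₁ p)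
    (singleX (curriedTensor (ModuleCat.{u} A)) P S.X₂ p) (singleX (curriedTensor (ModuleCat.{u} A)) P S.X₃ p)
    (singleX_natural P S.f p) (singleX_natural P S.g p)

lemma tr_adic_mk (I : Ideal A) {n m : ℕ} (h : n ≤ m) (x : A) :
    (ARSys.tr (CohIII.adicSystem I (ModuleCat.of A A)) h).hom (Submodule.Quotient.mk x) = Submodule.Quotient.mk x := by
  induction m, h using Nat.le_induction with
  | base => simp [ARSys.tr]
  | succ m h ih =>
    rw [← tr_comp (CohIII.adicSystem I (ModuleCat.of A A)) h (Nat.le_succ m)]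
    change (ARSys.tr (CohIII.adicSystem I (ModuleCat.of A A)) h).hom
      ((ARSys.tr (CohIII.adicSystem I (ModuleCat.of A A)) (Nat.le_succ m)).hom (Submodule.Quotient.mk x)) = _
    have : (ARSys.tr (CohIII.adicSystem I (ModuleCat.of A A)) (Nat.le_succ m)).hom (Submodule.Quotient.mk x) =
        Submodule.Quotient.mk x := by
      rw [ARSys.tr]
      exact congrArg (fun z => z.hom (Submodule.Quotient.mk x)) (Functor.ofOpSequence_map_homOfLE_succ
        (X := fun n => ModuleCat.of A (A ⧸ (I ^ (n + 1) • (⊤ : Submodule A A))))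
        (fun n => ModuleCat.ofHom (Submodule.factor
          (Submodule.smul_mono_left (Ideal.pow_le_pow_right (Nat.le_succ (n + 1)))))) m)
    rw [this]
    exact ih

theorem exists_factor [IsNoetherianRing A] [DTen.HasLTen A] [DTen.KFlatComputes A] (I : Ideal A) (M : Type u)
    [AddCommGroup M] [Module A M] [Module.Finite A M] :
    ∃ (n : ℕ) (_ : 0 < n)
      (g : DerivedCategory.Q.obj ((sg A).obj (ModuleCat.of A ↥(I ^ n • (⊤ : Submodule A M)))) ⟶
            (DTen.LTen₂ A).obj (DerivedCategory.Q.obj ((sg A).obj (ModuleCat.of A ↥I)),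
              DerivedCategory.Q.obj ((sg A).obj (ModuleCat.of A M)))),
      g ≫ (DTen.LTen₂ A).map (Prod.mkHom (DerivedCategory.Q.map ((sg A).map (ModuleCat.ofHom I.subtype))) (𝟙 _)) ≫
          (DTen.unitL A).app (DerivedCategory.Q.obj ((sg A).obj (ModuleCat.of A M))) =
        DerivedCategory.Q.map ((sg A).map (ModuleCat.ofHom (I ^ n • (⊤ : Submodule A M)).subtype)) := by
  let Mc : DRing.Cx A := (sg A).obj (ModuleCat.of A M)
  obtain ⟨P, q, hP, hPt, hq, -⟩ := exists_epi_resolution (curriedTensor (ModuleCat.{u} A))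
    (fun _ : PUnit.{u + 1} => ModuleCat.of A A) (self_separates A) Mc
  have hb : DRing.VanishesOutside Mc 0 0 := fun i hi => isZero_single_obj_X _ _ _ _ (by omega)
  have hf : ∀ i, Module.Finite A (Mc.X i) := fun i => by
    by_cases h : i = 0
    · subst h
      exact Module.Finite.equiv (singleObjXSelf (ComplexShape.up ℤ) 0 (ModuleCat.of A M)).toLinearEquiv.symm
    · have : Subsingleton (Mc.X i) := ModuleCat.subsingleton_of_isZero (isZero_single_obj_X _ _ _ _ h)
      infer_instance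
  obtain ⟨m, hm, b, hb₁, -⟩ := isProIso_η I Mc 0 0 hb hf q hP hq 0
  let W := I ^ (m + 1) • (⊤ : Submodule A M)
  let j := ModuleCat.ofHom W.subtype
  let qI : 𝟙_ (ModuleCat.{u} A) ⟶ ModuleCat.of A (A ⧸ I) := ModuleCat.ofHom (Submodule.mkQ I)
  let S : ShortComplex (ModuleCat.{u} A) := ShortComplex.mk (ModuleCat.ofHom I.subtype : _ ⟶ 𝟙_ (ModuleCat.{u} A)) qI
    (by ext x; exact (Submodule.Quotient.mk_eq_zero _).2 x.2)
  have hS : S.ShortExact :=
    { exact := by
        rw [ShortComplex.moduleCat_exact_iff]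
        exact fun x hx => ⟨⟨x, (Submodule.Quotient.mk_eq_zero _).1 hx⟩, rfl⟩
      mono_f := (ModuleCat.mono_iff_injective _).2 Subtype.val_injective
      epi_g := (ModuleCat.epi_iff_surjective _).2 (Submodule.mkQ_surjective I) }
  have hS' := shortExact_tensor_single P hPt S hS
  have hqi : IsIso (DerivedCategory.Q.map q) := Groth.Agent.KFlat.isIso_Q_map q hq
  let a : DerivedCategory.Q.obj ((sg A).obj (ModuleCat.of A W)) ⟶ DerivedCategory.Q.obj P :=
    DerivedCategory.Q.map ((sg A).map j) ≫ inv (DerivedCategory.Q.map q)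
  let em : 𝟙_ (ModuleCat.{u} A) ⟶ ModuleCat.of A (A ⧸ (I ^ (m + 1) • (⊤ : Submodule A A))) :=
    ModuleCat.ofHom (Submodule.mkQ _)
  let e₀ : ModuleCat.of A (A ⧸ (I ^ (0 + 1) • (⊤ : Submodule A A))) ⟶ ModuleCat.of A (A ⧸ I) :=
    ModuleCat.ofHom (Submodule.factor (by simp))
  -- killed in `K ⊗ A/I^(m+1)`
  have hz : (sg A).map j ≫ (ρ_ Mc).inv ≫ Mc ◁ (sg A).map em = 0 := by
    apply from_single_hom_ext
    rw [HomologicalComplex.comp_f, HomologicalComplex.comp_f, rightUnitor_inv_f, single_map_f_self]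
    simp only [Category.assoc, ι_whiskerLeft, zero_f, comp_zero, Mc]
    rw [← MonoidalCategory.whiskerLeft_comp_assoc, single_map_f_self, Iso.inv_hom_id_assoc,
      MonoidalCategory.whiskerLeft_comp, rightUnitor_inv_naturality_assoc]
    simp only [Category.assoc]
    rw [← whisker_exchange_assoc]
    have : j ≫ (ρ_ (ModuleCat.of A M)).inv ≫ ModuleCat.of A M ◁ em = 0 := by
      refine ModuleCat.hom_ext (LinearMap.ext fun x => ?_)
      obtain ⟨x, hx⟩ := x
      change x ⊗ₜ[A] (Submodule.Quotient.mk (1 : A) : A ⧸ (I ^ (m + 1) • (⊤ : Submodule A A))) = 0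
      refine Submodule.smul_induction_on (p := fun y => y ⊗ₜ[A] (Submodule.Quotient.mk (1 : A) : A ⧸ (I ^ (m + 1) • (⊤ : Submodule A A))) = 0) hx ?_ ?_
      · intro r hr y _
        rw [TensorProduct.smul_tmul, ← Submodule.Quotient.mk_smul]
        rw [(Submodule.Quotient.mk_eq_zero _).2 (Submodule.smul_mem_smul hr Submodule.mem_top), TensorProduct.tmul_zero]
      · intro y z hy hz
        rw [TensorProduct.add_tmul, hy, hz, add_zero]
    rw [reassoc_of% this]
    simp
  have hza : a ≫ DerivedCategory.Q.map ((ρ_ P).inv ≫ P ◁ (sg A).map em) ≫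
      DerivedCategory.Q.map (q ▷ _) = 0 := by
    have hx : ((ρ_ P).inv ≫ P ◁ (sg A).map em) ≫ q ▷ _ = q ≫ (ρ_ Mc).inv ≫ Mc ◁ (sg A).map em := by
      rw [Category.assoc, whisker_exchange, rightUnitor_inv_naturality_assoc]
    rw [← Functor.map_comp, hx, Functor.map_comp]
    simp only [a, Category.assoc, IsIso.inv_hom_id_assoc]
    rw [← Functor.map_comp, hz, Functor.map_zero]
  have hz₀ : a ≫ DerivedCategory.Q.map ((ρ_ P).inv ≫ P ◁ (sg A).map qI) = 0 := by
    let T := ARSys.tr (CohIII.adicSystem I (ModuleCat.of A A)) hm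
    let t : ModuleCat.of A (A ⧸ (I ^ (m + 1) • (⊤ : Submodule A A))) ⟶
        ModuleCat.of A (A ⧸ (I ^ (0 + 1) • (⊤ : Submodule A A))) := T
    have he : qI = em ≫ t ≫ e₀ := by
      refine ModuleCat.hom_ext (LinearMap.ext fun x => ?_)
      change Submodule.Quotient.mk x = e₀.hom ((ARSys.tr (CohIII.adicSystem I (ModuleCat.of A A)) hm).hom
        (Submodule.Quotient.mk x))
      rw [tr_adic_mk]
      rfl
    let b' : DerivedCategory.Q.obj (Mc ⊗ (sg A).obj (ModuleCat.of A (A ⧸ (I ^ (m + 1) • (⊤ : Submodule A A))))) ⟶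
        DerivedCategory.Q.obj (P ⊗ (sg A).obj (ModuleCat.of A (A ⧸ (I ^ (0 + 1) • (⊤ : Submodule A A))))) := b
    have hb₁' : DerivedCategory.Q.map (P ◁ (sg A).map t) = DerivedCategory.Q.map (q ▷ _) ≫ b' := hb₁.symm
    have hw : (ρ_ P).inv ≫ P ◁ (sg A).map qI =
        ((ρ_ P).inv ≫ P ◁ (sg A).map em) ≫ P ◁ (sg A).map t ≫ P ◁ (sg A).map e₀ := by
      rw [he, (sg A).map_comp, (sg A).map_comp, MonoidalCategory.whiskerLeft_comp, MonoidalCategory.whiskerLeft_comp,
        Category.assoc]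
    rw [hw, Functor.map_comp, Functor.map_comp DerivedCategory.Q (P ◁ (sg A).map t), hb₁']
    refine Eq.trans ?_ ((congrArg (fun z => z ≫ b' ≫ DerivedCategory.Q.map (P ◁ (sg A).map e₀)) hza).trans zero_comp)
    simp only [Category.assoc]
  obtain ⟨g₀, hg₀⟩ := Pretriangulated.Triangle.coyoneda_exact₂ _ (DerivedCategory.triangleOfSES_distinguished hS')
    (show DerivedCategory.Q.obj ((sg A).obj (ModuleCat.of A W)) ⟶
      DerivedCategory.Q.obj (((S.map (sg A)).map (tensR (curriedTensor (ModuleCat.{u} A)) P)).X₂) from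
      a ≫ DerivedCategory.Q.map (ρ_ P).inv)
    (by
      refine Eq.trans ?_ hz₀
      rw [Functor.map_comp, ← Category.assoc]
      rfl)
  let g₁ : DerivedCategory.Q.obj ((sg A).obj (ModuleCat.of A W)) ⟶
      DerivedCategory.Q.obj (P ⊗ (sg A).obj (ModuleCat.of A ↥I)) := g₀
  have : IsIso ((DTen.ε A).app ((sg A).obj (ModuleCat.of A ↥I), P)) := DTen.KFlatComputes.isIso_counit _ _ (Or.inr hP)
  let eI : (DTen.LTen₂ A).obj (DerivedCategory.Q.obj ((sg A).obj (ModuleCat.of A ↥I)), DerivedCategory.Q.obj P) ≅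
      DerivedCategory.Q.obj ((sg A).obj (ModuleCat.of A ↥I) ⊗ P) :=
    @asIso _ _ _ _ ((DTen.ε A).app ((sg A).obj (ModuleCat.of A ↥I), P)) this
  refine ⟨m + 1, Nat.succ_pos m, g₁ ≫ DerivedCategory.Q.map (DTen.braidCx P _).hom ≫ eI.inv ≫
      (DTen.LTen₂ A).map (Prod.mkHom (𝟙 _) (DerivedCategory.Q.map q)), ?_⟩
  let i : (sg A).obj (ModuleCat.of A ↥I) ⟶ 𝟙_ (DRing.Cx A) := (sg A).map (ModuleCat.ofHom I.subtype)
  have h1 : (DTen.LTen₂ A).map (Prod.mkHom (𝟙 _) (DerivedCategory.Q.map q)) ≫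
      (DTen.LTen₂ A).map (Prod.mkHom (DerivedCategory.Q.map i) (𝟙 _)) ≫ (DTen.unitL A).app (DerivedCategory.Q.obj Mc) =
      (DTen.ε A).app ((sg A).obj (ModuleCat.of A ↥I), P) ≫ DerivedCategory.Q.map (i ▷ P ≫ (λ_ P).hom) ≫
        DerivedCategory.Q.map q := by
    have e := (DTen.ε A).naturality (Prod.mkHom i q)
    dsimp at e
    rw [DTen.unitL_app, ← Functor.map_comp_assoc]
    erw [prod_comp]
    simp only [Category.id_comp, Category.comp_id]
    erw [reassoc_of% e]
    simp only [← Functor.map_comp, Category.assoc, MonoidalCategory.leftUnitor_naturality]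
    rfl
  simp only [Category.assoc]
  erw [h1]
  erw [eI.inv_hom_id_assoc]
  rw [← Functor.map_comp_assoc]
  have h2 : (DTen.braidCx P ((sg A).obj (ModuleCat.of A ↥I))).hom ≫ i ▷ P ≫ (λ_ P).hom = P ◁ i ≫ (ρ_ P).hom := by
    have e := DTen.braidCx_naturality (𝟙 P) i
    simp only [MonoidalCategory.id_tensorHom, MonoidalCategory.tensorHom_id] at e
    rw [← reassoc_of% e]
    congr 1
    exact braiding_leftUnitor P
  rw [h2, Functor.map_comp, Category.assoc]
  have hg₁ : g₁ ≫ DerivedCategory.Q.map (P ◁ i) = a ≫ DerivedCategory.Q.map (ρ_ P).inv := hg₀.symm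
  rw [reassoc_of% hg₁, ← Functor.map_comp_assoc, Iso.inv_hom_id, CategoryTheory.Functor.map_id, Category.id_comp]
  simp only [a, Category.assoc, IsIso.inv_hom_id, Category.comp_id]
  rfl

end Groth.Agent.KFlat.Pro
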