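import Groth.Agent.KFlat.Pro.Kos
import Groth.Agent.KFlat.Pro.Basic
import Mathlib.Algebra.Homology.HomotopyCategory.ShortExact
import Mathlib.Algebra.Homology.HomologicalComplexAbelian
import Mathlib.Algebra.Category.ModuleCat.Monoidal.Basic
import Mathlib.LinearAlgebra.TensorProduct.Quotient
import Mathlib.RingTheory.Noetherian.Basic
import Mathlib.Data.Int.Interval

/-!
`T_n ⊗ Kos (a ^ (n+1)) ⟶ T_n ⊗ A/a^(n+1)` is a pro-quasi-isomorphism for uniformly bounded systems of complexes of
finite modules over a Noetherian ring.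
-/

universe u

open CategoryTheory CategoryTheory.Limits MonoidalCategory HomologicalComplex CochainComplex.HomComplex Opposite
attribute [local instance] HasDerivedCategory.standard

namespace Groth.Agent.KFlat.Pro

variable {A : Type u} [CommRing A]

/-- The system `n ↦ A / J n`. -/
noncomputable def Qsys (J : ℕ → Ideal A) (hJ : Antitone J) : ARSys.PS (ModuleCat.{u} A) where
  obj n := ModuleCat.of A (A ⧸ J n.unop)
  map f := ModuleCat.ofHom (Submodule.factor (hJ (leOfHom f.unop)))
  map_id n := by ext; rfl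
  map_comp f g := by ext; rfl

lemma antitone_span_pow (a : A) : Antitone fun n : ℕ => Ideal.span {a ^ (n + 1)} := fun _ _ h => by
  simp only [Ideal.span_singleton_le_iff_mem, Ideal.mem_span_singleton]
  exact pow_dvd_pow a (by omega)

/-- The system `n ↦ (A/a^(n+1))[0]`. -/
noncomputable def RSys (a : A) : ARSys.PS (DRing.Cx A) :=
  Qsys _ (antitone_span_pow a) ⋙ single (ModuleCat.{u} A) (ComplexShape.up ℤ) 0

lemma pow_eq (a : A) {n m : ℕ} (h : n ≤ m) : a ^ (m + 1) = a ^ (m - n) * a ^ (n + 1) := by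
  rw [← pow_add]; congr 1; omega

lemma Kos_hom_ext {c : A} {K : DRing.Cx A} {φ φ' : Kos c ⟶ K} (h₁ : (e₁ c).hom ≫ φ.f (-1) = (e₁ c).hom ≫ φ'.f (-1))
    (h₀ : (e₀ c).hom ≫ φ.f 0 = (e₀ c).hom ≫ φ'.f 0) : φ = φ' :=
  from_double_hom_ext ((cancel_epi (e₁ c).hom).1 h₁) ((cancel_epi (e₀ c).hom).1 h₀)

/-- The system of Koszul complexes. -/
noncomputable def KosSys (a : A) : ARSys.PS (DRing.Cx A) where
  obj n := Kos (a ^ (n.unop + 1))
  map {m n} f := τ (pow_eq a (leOfHom f.unop))
  map_id n := by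
    apply Kos_hom_ext
    · rw [e₁_τ]; simp
    · rw [e₀_τ]; simp
  map_comp {m k n} f g := by
    apply Kos_hom_ext
    · rw [HomologicalComplex.comp_f, e₁_τ, e₁_τ_assoc, Linear.smul_comp, e₁_τ, smul_smul,
        ← pow_add]
      congr 2
      have := leOfHom f.unop
      have := leOfHom g.unop
      omega
    · rw [HomologicalComplex.comp_f, e₀_τ, e₀_τ_assoc, e₀_τ]

lemma τ_κ {s c c' : A} (h : c' = s * c) (q : ModuleCat.of A (A ⧸ Ideal.span {c'}) ⟶ ModuleCat.of A (A ⧸ Ideal.span {c}))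
    (hq : mk₀ c' ≫ q = mk₀ c) :
    τ h ≫ κ c = κ c' ≫ (single (ModuleCat.{u} A) (ComplexShape.up ℤ) 0).map q := by
  apply Kos_hom_ext
  · exact (isZero_single_obj_X _ _ _ _ (by decide)).eq_of_tgt _ _
  · rw [HomologicalComplex.comp_f, HomologicalComplex.comp_f, e₀_τ_assoc, e₀_κ, e₀_κ_assoc, single_map_f_self,
      Iso.inv_hom_id_assoc, reassoc_of% hq]

/-- `Kos ⟶ A/a^(n+1)` levelwise. -/
noncomputable def κSys (a : A) : KosSys a ⟶ RSys a where
  app n := κ (a ^ (n.unop + 1))
  naturality m n f := τ_κ (pow_eq a (leOfHom f.unop)) (ModuleCat.ofHom (Submodule.factor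
    (antitone_span_pow a (leOfHom f.unop)))) (by ext; rfl)

/-- The levelwise tensor product of two systems. -/
noncomputable def tns (X Y : ARSys.PS (DRing.Cx A)) : ARSys.PS (DRing.Cx A) where
  obj n := X.obj n ⊗ Y.obj n
  map f := X.map f ⊗ₘ Y.map f
  map_id n := by simp
  map_comp f g := by simp [MonoidalCategory.tensorHom_comp_tensorHom]

/-- The levelwise tensor product of two maps of systems. -/
noncomputable def tnsMap {X X' Y Y' : ARSys.PS (DRing.Cx A)} (f : X ⟶ X') (g : Y ⟶ Y') : tns X Y ⟶ tns X' Y' where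
  app n := f.app n ⊗ₘ g.app n
  naturality m n h := by
    simp [tns, MonoidalCategory.tensorHom_comp_tensorHom]

section Level

variable {T T' : DRing.Cx A}

lemma θ_naturality (f : T ⟶ T') {s c c' : A} (h : c' = s * c) (comm : (c' • 𝟙 T) ≫ f = (s • f) ≫ (c • 𝟙 T')) :
    θ T c' ≫ (f ⊗ₘ τ h) = CochainComplex.mappingCone.map (c' • 𝟙 T) (c • 𝟙 T') (s • f) f comm ≫ θ T' c := by
  refine HomologicalComplex.hom_ext _ _ fun n => ?_
  apply CochainComplex.mappingCone.ext_from _ (n + 1) n rfl
  · simp only [θ, CochainComplex.mappingCone.map, HomologicalComplex.comp_f,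
      CochainComplex.mappingCone.inl_v_desc_f_assoc, Cochain.zero_cochain_comp_v, Cochain.ofHom_v,
      Category.assoc, CochainComplex.mappingCone.inl_v_desc_f, α, Cochain.mk_v, αc,
      HomologicalComplex.smul_f_apply, Linear.units_smul_comp, Linear.comp_units_smul, Linear.smul_comp]
    rw [ι_tensorHom, MonoidalCategory.tensorHom_def', Category.assoc, ← MonoidalCategory.whiskerLeft_comp_assoc, e₁_τ,
      MonoidalLinear.whiskerLeft_smul]
    simp only [Linear.smul_comp, Linear.comp_smul, Category.assoc]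
    rw [whisker_exchange_assoc, ← rightUnitor_inv_naturality_assoc]
    rw [smul_comm]
  · simp only [θ, CochainComplex.mappingCone.map, HomologicalComplex.comp_f,
      CochainComplex.mappingCone.inr_f_desc_f_assoc, Category.assoc, CochainComplex.mappingCone.inr_f_desc_f, β_f]
    rw [ι_tensorHom, MonoidalCategory.tensorHom_def', Category.assoc, ← MonoidalCategory.whiskerLeft_comp_assoc, e₀_τ,
      whisker_exchange_assoc, ← rightUnitor_inv_naturality_assoc]

variable (T) (c : A)

/-- `T ⟶ T ⊗ (A/c)[0]`. -/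
noncomputable def g : T ⟶ T ⊗ R c := (ρ_ T).inv ≫ T ◁ r c

lemma g_f (p : ℤ) : (g T c).f p = (ρ_ (T.X p)).inv ≫ T.X p ◁ mk₀ c ≫
    (singleX (curriedTensor (ModuleCat.{u} A)) T (ModuleCat.of A (A ⧸ Ideal.span {c})) p).hom := by
  rw [g, HomologicalComplex.comp_f, rightUnitor_inv_f, Category.assoc, Category.assoc, ι_whiskerLeft,
    ← MonoidalCategory.whiskerLeft_comp_assoc, r, single_map_f_self, Iso.inv_hom_id_assoc]
  simp [singleX]

lemma g_f_apply_eq_zero (p : ℤ) (x : T.X p) : (g T c).f p x = 0 ↔ ∃ y : T.X p, c • y = x := by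
  rw [g_f, ConcreteCategory.comp_apply, ConcreteCategory.comp_apply]
  have hinj : Function.Injective
      (singleX (curriedTensor (ModuleCat.{u} A)) T (ModuleCat.of A (A ⧸ Ideal.span {c})) p).hom :=
    (ModuleCat.mono_iff_injective _).1 inferInstance
  rw [map_eq_zero_iff _ hinj, ModuleCat.MonoidalCategory.rightUnitor_inv_apply]
  erw [ModuleCat.MonoidalCategory.whiskerLeft_apply]
  rw [← (TensorProduct.tensorQuotEquivQuotSMul (T.X p) (Ideal.span {c})).map_eq_zero_iff]
  erw [LinearEquiv.trans_apply, TensorProduct.comm_tmul, TensorProduct.quotTensorEquivQuotSMul_mk_tmul]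
  rw [one_smul, Submodule.Quotient.mk_eq_zero, Submodule.ideal_span_singleton_smul,
    Submodule.mem_smul_pointwise_iff_exists]
  simp

/-- The torsion-free quotient `T / T[c]`, as the coimage of `c` on `T`. -/
noncomputable abbrev Tq : DRing.Cx A := Abelian.coimage (c • 𝟙 T)

/-- `T / T[c] ⟶ T`. -/
noncomputable abbrev cbar : Tq T c ⟶ T := Abelian.factorThruCoimage (c • 𝟙 T)

lemma π_cbar : Abelian.coimage.π (c • 𝟙 T) ≫ cbar T c = c • 𝟙 T := Abelian.coimage.fac _

lemma cbar_g : cbar T c ≫ g T c = 0 := by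
  rw [← cancel_epi (Abelian.coimage.π (c • 𝟙 T)), reassoc_of% (π_cbar T c), comp_zero]
  ext p x
  refine (g_f_apply_eq_zero T c p _).2 ⟨x, ?_⟩
  rfl

/-- `T/T[c] ⟶ T ⟶ T ⊗ A/c`. -/
noncomputable def ses : ShortComplex (DRing.Cx A) := ShortComplex.mk (cbar T c) (g T c) (cbar_g T c)

lemma ses_shortExact : (ses T c).ShortExact := by
  refine shortExact_of_degreewise_shortExact _ fun p => ?_
  have hm : Mono ((cbar T c).f p) := inferInstance
  have he : Epi ((g T c).f p) := by
    rw [g_f, ModuleCat.epi_iff_surjective]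
    intro y
    obtain ⟨z, rfl⟩ := ((ModuleCat.epi_iff_surjective _).1
      (inferInstance : Epi (singleX (curriedTensor (ModuleCat.{u} A)) T (ModuleCat.of A (A ⧸ Ideal.span {c})) p).hom)) y
    obtain ⟨w, hw⟩ := LinearMap.lTensor_surjective (T.X p) (Submodule.mkQ_surjective (Ideal.span {c})) z
    refine ⟨(ρ_ (T.X p)).hom w, ?_⟩
    rw [ConcreteCategory.comp_apply, ConcreteCategory.comp_apply, Iso.hom_inv_id_apply]
    exact congrArg _ hw
  refine { mono_f := hm, epi_g := he, exact := ?_ }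
  rw [ShortComplex.moduleCat_exact_iff]
  intro x hx
  obtain ⟨y, hy⟩ := (g_f_apply_eq_zero T c p x).1 hx
  refine ⟨(Abelian.coimage.π (c • 𝟙 T)).f p y, ?_⟩
  have := ConcreteCategory.congr_hom (congrArg (fun t => t.f p) (π_cbar T c)) y
  exact this.trans hy

/-- `cone (T/T[c] ⟶ T) ⟶ T ⊗ A/c`. -/
noncomputable abbrev ψ : CochainComplex.mappingCone (cbar T c) ⟶ T ⊗ R c :=
  CochainComplex.mappingCone.descShortComplex (ses T c)

lemma quasiIso_ψ : QuasiIso (ψ T c) := CochainComplex.mappingCone.quasiIso_descShortComplex (ses_shortExact T c)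

@[reassoc]
lemma inl_ψ (p q : ℤ) (h : p + (-1) = q) :
    (CochainComplex.mappingCone.inl (cbar T c)).v p q h ≫ (ψ T c).f q = 0 :=
  CochainComplex.mappingCone.inl_v_descShortComplex_f (ses T c) p q h

@[reassoc]
lemma inr_ψ (p : ℤ) : (CochainComplex.mappingCone.inr (cbar T c)).f p ≫ (ψ T c).f p = (g T c).f p :=
  CochainComplex.mappingCone.inr_f_descShortComplex_f (ses T c) p

lemma π_ψ : CochainComplex.mappingCone.map (c • 𝟙 T) (cbar T c) (Abelian.coimage.π (c • 𝟙 T)) (𝟙 T)
    (by rw [Category.comp_id, π_cbar]) ≫ ψ T c = θ T c ≫ T ◁ κ c := by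
  refine HomologicalComplex.hom_ext _ _ fun n => ?_
  apply CochainComplex.mappingCone.ext_from _ (n + 1) n rfl
  · simp only [θ, CochainComplex.mappingCone.map, HomologicalComplex.comp_f,
      CochainComplex.mappingCone.inl_v_desc_f_assoc, Cochain.zero_cochain_comp_v, Cochain.ofHom_v,
      Category.assoc, α, Cochain.mk_v, αc, Linear.units_smul_comp, ι_whiskerLeft, κ_f₁,
      MonoidalPreadditive.whiskerLeft_zero, zero_comp, comp_zero, smul_zero]
    rw [inl_ψ, comp_zero]
  · simp only [θ, CochainComplex.mappingCone.map, HomologicalComplex.comp_f,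
      CochainComplex.mappingCone.inr_f_desc_f_assoc, Category.assoc, β_f, ι_whiskerLeft,
      HomologicalComplex.id_f, Category.id_comp]
    rw [inr_ψ]
    rw [← MonoidalCategory.whiskerLeft_comp_assoc, e₀_κ]
    exact g_f T c n |>.trans (by simp [singleX])

end Level

/-- Torsion for the powers of one element stabilises. -/
lemma exists_torsion_bound [IsNoetherianRing A] (a : A) (M : Type u) [AddCommGroup M] [Module A M]
    [Module.Finite A M] : ∃ N : ℕ, ∀ (j : ℕ) (x : M), a ^ j • x = 0 → a ^ N • x = 0 := by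
  obtain ⟨N, hN⟩ := monotone_stabilizes_iff_noetherian.mpr (inferInstanceAs (IsNoetherian A M))
    ⟨fun j => LinearMap.ker (LinearMap.lsmul A M (a ^ j)), fun i j h x hx => by
      simp only [LinearMap.mem_ker, LinearMap.lsmul_apply] at hx ⊢
      obtain ⟨k, rfl⟩ := Nat.exists_eq_add_of_le h
      rw [pow_add, mul_comm, mul_smul, hx, smul_zero]⟩
  refine ⟨N, fun j x hx => ?_⟩
  rcases le_total N j with h | h
  · have : x ∈ LinearMap.ker (LinearMap.lsmul A M (a ^ j)) := hx
    exact (SetLike.ext_iff.1 (hN j h) x).2 this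
  · obtain ⟨k, rfl⟩ := Nat.exists_eq_add_of_le h
    rw [pow_add, mul_comm, mul_smul, hx, smul_zero]

/-- Uniform bound over the degrees of a bounded complex. -/
lemma exists_torsion_bound_cx [IsNoetherianRing A] (a : A) (T : DRing.Cx A) (lo hi : ℤ)
    (hb : DRing.VanishesOutside T lo hi) (hf : ∀ i, Module.Finite A (T.X i)) :
    ∃ N : ℕ, ∀ (p : ℤ) (j : ℕ) (x : T.X p), a ^ j • x = 0 → a ^ N • x = 0 := by
  have := hf
  choose N hN using fun p : ℤ => exists_torsion_bound a (T.X p)
  refine ⟨(Finset.Icc lo hi).sup N, fun p j x hx => ?_⟩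
  by_cases hp : p < lo ∨ hi < p
  · have : Subsingleton (T.X p) := ModuleCat.subsingleton_of_isZero (hb p hp)
    exact Subsingleton.elim _ _
  · obtain ⟨k, hk⟩ := Nat.exists_eq_add_of_le
      (Finset.le_sup (f := N) (show p ∈ Finset.Icc lo hi by simp only [Finset.mem_Icc]; omega))
    rw [hk, pow_add, mul_comm, mul_smul, hN p j x hx, smul_zero]

/-- The key lemma. -/
theorem isProIso_κ [IsNoetherianRing A] (a : A) (T : ARSys.PS (DRing.Cx A)) (lo hi : ℤ)
    (hb : ∀ n, DRing.VanishesOutside (T.obj n) lo hi) (hf : ∀ n i, Module.Finite A ((T.obj n).X i)) :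
    DerCA.IsProIso (Functor.whiskerRight (tnsMap (𝟙 T) (κSys a)) DerivedCategory.Q) := by
  intro n
  obtain ⟨N, hN⟩ := exists_torsion_bound_cx a (T.obj (op n)) lo hi (hb _) (hf _)
  have hm : n ≤ n + N := Nat.le_add_right n N
  refine ⟨n + N, hm, ?_⟩
  let f : T.obj (op (n + N)) ⟶ T.obj (op n) := ARSys.tr T hm
  let s : A := a ^ (n + N - n)
  let c : A := a ^ (n + 1)
  let c' : A := a ^ (n + N + 1)
  let t : R c' ⟶ R c := (RSys a).map (homOfLE hm).op
  have hc : c' = s * c := pow_eq a hm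
  have hu : kernel.ι (c' • 𝟙 (T.obj (op (n + N)))) ≫ (s • f) = 0 := by
    ext p x
    have hx : c' • ((kernel.ι (c' • 𝟙 (T.obj (op (n + N))))).f p x) = 0 :=
      ConcreteCategory.congr_hom (congrArg (fun t => t.f p) (kernel.condition (c' • 𝟙 (T.obj (op (n + N)))))) x
    have h2 : c' • ((f.f p).hom ((kernel.ι (c' • 𝟙 (T.obj (op (n + N))))).f p x)) = 0 := by
      exact ((f.f p).hom.map_smul c' _).symm.trans ((congrArg (fun y => (f.f p).hom y) hx).trans (f.f p).hom.map_zero)
    have h3 := hN p _ _ h2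
    have hs : s = a ^ N := by simp [s]
    change s • (f.f p).hom ((kernel.ι (c' • 𝟙 (T.obj (op (n + N))))).f p x) = 0
    rw [hs]
    exact h3
  let u : Tq (T.obj (op (n + N))) c' ⟶ T.obj (op n) := cokernel.desc _ (s • f) hu
  have hπu : Abelian.coimage.π (c' • 𝟙 (T.obj (op (n + N)))) ≫ u = s • f := cokernel.π_desc _ _ _
  have comm : (c' • 𝟙 (T.obj (op (n + N)))) ≫ f = (s • f) ≫ (c • 𝟙 (T.obj (op n))) := by
    simp [hc, smul_smul, mul_comm]
  have commw : cbar _ c' ≫ f = u ≫ (c • 𝟙 (T.obj (op n))) := by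
    rw [← cancel_epi (Abelian.coimage.π (c' • 𝟙 (T.obj (op (n + N))))), reassoc_of% (π_cbar (T.obj (op (n + N))) c'),
      reassoc_of% hπu, comm]
  let w : CochainComplex.mappingCone (cbar _ c') ⟶ T.obj (op n) ⊗ Kos c :=
    CochainComplex.mappingCone.map _ (c • 𝟙 (T.obj (op n))) u f commw ≫ θ _ c
  have h₁ : CochainComplex.mappingCone.map (c' • 𝟙 (T.obj (op (n + N)))) (cbar _ c')
      (Abelian.coimage.π _) (𝟙 _) (by rw [Category.comp_id, π_cbar]) ≫ w = θ _ c' ≫ (f ⊗ₘ τ hc) := by
    rw [θ_naturality f hc comm]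
    simp only [w, ← Category.assoc, ← CochainComplex.mappingCone.map_comp, hπu, Category.id_comp]
  have hr : r c' ≫ t = r c := by
    rw [r, r]
    exact ((single (ModuleCat.{u} A) (ComplexShape.up ℤ) 0).map_comp _ _).symm.trans
      (congrArg _ (by ext; rfl))
  have h₂ : w ≫ (T.obj (op n) ◁ κ c) = ψ _ c' ≫ (f ⊗ₘ t) := by
    refine HomologicalComplex.hom_ext _ _ fun p => ?_
    apply CochainComplex.mappingCone.ext_from _ (p + 1) p rfl
    · simp only [w, θ, CochainComplex.mappingCone.map, HomologicalComplex.comp_f,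
        CochainComplex.mappingCone.inl_v_desc_f_assoc, Cochain.zero_cochain_comp_v, Cochain.ofHom_v,
        Category.assoc, α, Cochain.mk_v, αc, Linear.units_smul_comp, ι_whiskerLeft, κ_f₁,
        MonoidalPreadditive.whiskerLeft_zero, zero_comp, comp_zero, smul_zero]
      rw [inl_ψ_assoc, zero_comp]
    · have hg : g (T.obj (op (n + N))) c' ≫ (f ⊗ₘ t) = f ≫ g (T.obj (op n)) c := by
        rw [g, g, Category.assoc, MonoidalCategory.tensorHom_def', ← MonoidalCategory.whiskerLeft_comp_assoc,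
          hr, whisker_exchange, ← rightUnitor_inv_naturality_assoc]
      have hg' := congrArg (fun t => t.f p) hg
      simp only [HomologicalComplex.comp_f] at hg'
      simp only [w, θ, CochainComplex.mappingCone.map, HomologicalComplex.comp_f,
        CochainComplex.mappingCone.inr_f_desc_f_assoc, Category.assoc, β_f, ι_whiskerLeft]
      rw [inr_ψ_assoc, hg']
      rw [← MonoidalCategory.whiskerLeft_comp_assoc, e₀_κ, g_f]
      simp [singleX]
  have hψ : IsIso (DerivedCategory.Q.map (ψ (T.obj (op (n + N))) c')) :=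
    Groth.Agent.KFlat.isIso_Q_map (ψ _ c') (quasiIso_ψ (T.obj (op (n + N))) c')
  let e := asIso (DerivedCategory.Q.map (ψ (T.obj (op (n + N))) c'))
  have he : e.hom = DerivedCategory.Q.map (ψ (T.obj (op (n + N))) c') := rfl
  have E₁ : DerivedCategory.Q.map (T.obj (op (n + N)) ◁ κ c') ≫ e.inv ≫ DerivedCategory.Q.map w =
      DerivedCategory.Q.map (f ⊗ₘ τ hc) := by
    rw [← cancel_epi (DerivedCategory.Q.map (θ (T.obj (op (n + N))) c')), ← Functor.map_comp_assoc, ← π_ψ,
      Functor.map_comp_assoc, ← he, e.hom_inv_id_assoc, ← Functor.map_comp, h₁, Functor.map_comp]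
  have E₂ : (e.inv ≫ DerivedCategory.Q.map w) ≫ DerivedCategory.Q.map (T.obj (op n) ◁ κ c) =
      DerivedCategory.Q.map (f ⊗ₘ t) := by
    rw [Category.assoc, ← Functor.map_comp, h₂, Functor.map_comp, ← he, e.inv_hom_id_assoc]
  refine ⟨e.inv ≫ DerivedCategory.Q.map w, ?_, ?_⟩
  · refine Eq.trans ?_ E₁
    exact congrArg (fun z => DerivedCategory.Q.map z ≫ e.inv ≫ DerivedCategory.Q.map w)
      (MonoidalCategory.id_tensorHom _ _)
  · refine Eq.trans ?_ E₂
    exact congrArg (fun z => (e.inv ≫ DerivedCategory.Q.map w) ≫ DerivedCategory.Q.map z)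
      (MonoidalCategory.id_tensorHom _ _)

end Groth.Agent.KFlat.Pro
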