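import Groth.Agent.KFlat.Ring
import Groth.Agent.KFlat.Bounded
import Mathlib.Algebra.Homology.Double
import Mathlib.Algebra.Homology.HomotopyCategory.MappingCone

/-!
The Koszul complex `A ⟶ A` of one element, and the identification of `T ⊗ Kos c` with the cone of `c` on `T`.
-/

universe u

open CategoryTheory CategoryTheory.Limits MonoidalCategory HomologicalComplex CochainComplex.HomComplex

namespace Groth.Agent.KFlat.Pro

variable {A : Type u} [CommRing A]

lemma rel_m1_0 : (ComplexShape.up ℤ).Rel (-1) 0 := by simp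

/-- The complex `A --c--> A` in degrees `-1, 0`. -/
noncomputable def Kos (c : A) : DRing.Cx A := double (c • 𝟙 (𝟙_ (ModuleCat.{u} A))) rel_m1_0

/-- Degree `-1` of `Kos c`. -/
noncomputable def e₁ (c : A) : 𝟙_ (ModuleCat.{u} A) ≅ (Kos c).X (-1) := (doubleXIso₀ _ _).symm

/-- Degree `0` of `Kos c`. -/
noncomputable def e₀ (c : A) : 𝟙_ (ModuleCat.{u} A) ≅ (Kos c).X 0 := (doubleXIso₁ _ _ (by decide)).symm

lemma e₁_d (c : A) : (e₁ c).hom ≫ (Kos c).d (-1) 0 = c • (e₀ c).hom := by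
  change _ ≫ (double _ rel_m1_0).d (-1) 0 = _
  rw [double_d _ rel_m1_0 (by decide)]
  simp [e₁, e₀, Linear.smul_comp]
  rfl

lemma Kos_isZero (c : A) (q : ℤ) (h₁ : q ≠ -1) (h₀ : q ≠ 0) : IsZero ((Kos c).X q) := isZero_double_X _ _ q h₁ h₀

lemma Kos_d_zero (c : A) (k : ℤ) : (Kos c).d 0 k = 0 := double_d_eq_zero₀ _ _ _ _ (by decide)

/-- `Kos c` is K-flat. -/
lemma isKFlat_Kos (c : A) : DRing.IsKFlat A (Kos c) := by
  refine (isKFlat_iff A _).2 (flatR_of_boundedAbove _ _ 0 (fun n hn => Kos_isZero c n (by omega) (by omega)) fun n => ?_)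
  have hu : IsFlatObj (curriedTensor (ModuleCat.{u} A)) (𝟙_ (ModuleCat.{u} A)) := by
    have : Module.Flat A (𝟙_ (ModuleCat.{u} A) : ModuleCat.{u} A) := inferInstanceAs (Module.Flat A A)
    exact isFlatObj_of_preservesHomology _ _
  by_cases h₁ : n = -1
  · subst h₁; exact hu.of_iso _ (e₁ c)
  by_cases h₀ : n = 0
  · subst h₀; exact hu.of_iso _ (e₀ c)
  exact IsFlatObj.of_isZero _ (Kos_isZero c n h₁ h₀)

/-- `A[0] ⟶ Kos c`. -/
noncomputable def i₀ (c : A) : 𝟙_ (DRing.Cx A) ⟶ Kos c :=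
  HomologicalComplex.mkHomFromSingle (e₀ c).hom fun k _ => by rw [Kos_d_zero, comp_zero]

lemma i₀_f (c : A) : (i₀ c).f 0 = (singleObjXSelf (ComplexShape.up ℤ) 0 (𝟙_ (ModuleCat.{u} A))).hom ≫ (e₀ c).hom :=
  mkHomFromSingle_f _ _

/-- `(A/c)[0]`. -/
noncomputable abbrev R (c : A) : DRing.Cx A :=
  (single (ModuleCat.{u} A) (ComplexShape.up ℤ) 0).obj (ModuleCat.of A (A ⧸ Ideal.span {c}))

/-- `A ⟶ A/c`. -/
noncomputable def mk₀ (c : A) : 𝟙_ (ModuleCat.{u} A) ⟶ ModuleCat.of A (A ⧸ Ideal.span {c}) :=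
  ModuleCat.ofHom (Submodule.mkQ (Ideal.span {c}))

/-- `A[0] ⟶ (A/c)[0]`. -/
noncomputable def r (c : A) : 𝟙_ (DRing.Cx A) ⟶ R c :=
  (single (ModuleCat.{u} A) (ComplexShape.up ℤ) 0).map (mk₀ c)

/-- `Kos c ⟶ (A/c)[0]`. -/
noncomputable def κ (c : A) : Kos c ⟶ R c :=
  mkHomFromDouble rel_m1_0 (by decide) 0 (mk₀ c ≫ (singleObjXSelf (ComplexShape.up ℤ) 0 _).inv)
    (by
      rw [zero_comp, Linear.smul_comp, Category.id_comp, ← Linear.smul_comp]
      have : c • mk₀ c = 0 := by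
        ext
        exact (Submodule.Quotient.mk_eq_zero _).2 (by simp)
      rw [this, zero_comp])
    fun k _ => by simp

lemma κ_f₁ (c : A) : (κ c).f (-1) = 0 := (isZero_single_obj_X _ _ _ _ (by decide)).eq_of_tgt _ _

@[reassoc]
lemma e₀_κ (c : A) : (e₀ c).hom ≫ (κ c).f 0 = mk₀ c ≫ (singleObjXSelf (ComplexShape.up ℤ) 0 _).inv := by
  rw [κ, mkHomFromDouble_f₁]
  simp [e₀, Kos]

lemma i₀_κ (c : A) : i₀ c ≫ κ c = r c := by
  apply from_single_hom_ext
  rw [HomologicalComplex.comp_f, i₀_f, Category.assoc, e₀_κ, r, single_map_f_self]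

/-- The transition map `Kos (s * c) ⟶ Kos c`. -/
noncomputable def τ {s c c' : A} (h : c' = s * c) : Kos c' ⟶ Kos c :=
  mkHomFromDouble rel_m1_0 (by decide) (s • (e₁ c).hom) (e₀ c).hom
    (by rw [Linear.smul_comp, e₁_d, smul_smul, ← h, Linear.smul_comp, Category.id_comp])
    fun k _ => by rw [Kos_d_zero, comp_zero]

@[reassoc]
lemma e₁_τ {s c c' : A} (h : c' = s * c) : (e₁ c').hom ≫ (τ h).f (-1) = s • (e₁ c).hom := by
  rw [τ, mkHomFromDouble_f₀]
  simp [e₁, Kos]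

@[reassoc]
lemma e₀_τ {s c c' : A} (h : c' = s * c) : (e₀ c').hom ≫ (τ h).f 0 = (e₀ c).hom := by
  rw [τ, mkHomFromDouble_f₁]
  simp [e₀, Kos]

lemma i₀_τ {s c c' : A} (h : c' = s * c) : i₀ c' ≫ τ h = i₀ c := by
  apply from_single_hom_ext
  rw [HomologicalComplex.comp_f, i₀_f, i₀_f, Category.assoc, e₀_τ]

section Theta

variable (T : DRing.Cx A) (c : A)

/-- The degree `-1` component of the comparison. -/
noncomputable def αc (p q : ℤ) (h : p + (-1) = q) : T.X p ⟶ (T ⊗ Kos c).X q :=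
  p.negOnePow • ((ρ_ (T.X p)).inv ≫ T.X p ◁ (e₁ c).hom ≫ ιTensorObj T (Kos c) p (-1) q h)

/-- The degree `-1` cochain of the comparison. -/
noncomputable def α : Cochain T (T ⊗ Kos c) (-1) := Cochain.mk (αc T c)

/-- `T ≅ T ⊗ A[0] ⟶ T ⊗ Kos c`. -/
noncomputable def β : T ⟶ T ⊗ Kos c := (ρ_ T).inv ≫ T ◁ i₀ c

lemma whiskerLeft_eq {K L : DRing.Cx A} (f : K ⟶ L) :
    T ◁ f = mapBifunctorMap (𝟙 T) f (curriedTensor (ModuleCat.{u} A)) (ComplexShape.up ℤ) := rfl

@[reassoc]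
lemma ι_whiskerLeft {K L : DRing.Cx A} (f : K ⟶ L) (p q n : ℤ) (h : p + q = n) :
    ιTensorObj T K p q n h ≫ (T ◁ f).f n = T.X p ◁ f.f q ≫ ιTensorObj T L p q n h := by
  refine (ι_mapBifunctorMap (𝟙 T) f (curriedTensor (ModuleCat.{u} A)) (ComplexShape.up ℤ) p q n h).trans ?_
  simp

@[reassoc]
lemma ι_tensorHom {T' K L : DRing.Cx A} (f : T ⟶ T') (g : K ⟶ L) (p q n : ℤ) (h : p + q = n) :
    ιTensorObj T K p q n h ≫ (f ⊗ₘ g).f n = (f.f p ⊗ₘ g.f q) ≫ ιTensorObj T' L p q n h := by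
  refine (ι_mapBifunctorMap f g (curriedTensor (ModuleCat.{u} A)) (ComplexShape.up ℤ) p q n h).trans ?_
  simp [MonoidalCategory.tensorHom_def]

lemma rightUnitor_inv_f (n : ℤ) : (ρ_ T).inv.f n = (ρ_ (T.X n)).inv ≫
    T.X n ◁ (singleObjXSelf (ComplexShape.up ℤ) 0 (𝟙_ (ModuleCat.{u} A))).inv ≫
      ιTensorObj T (𝟙_ (DRing.Cx A)) n 0 n (add_zero n) :=
  HomologicalComplex.rightUnitor'_inv T n

lemma β_f (p : ℤ) :
    (β T c).f p = (ρ_ (T.X p)).inv ≫ T.X p ◁ (e₀ c).hom ≫ ιTensorObj T (Kos c) p 0 p (add_zero p) := by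
  rw [β, HomologicalComplex.comp_f, rightUnitor_inv_f, Category.assoc, Category.assoc, ι_whiskerLeft,
    ← MonoidalCategory.whiskerLeft_comp_assoc, i₀_f, Iso.inv_hom_id_assoc]

lemma ι_d (p : ℤ) : ιTensorObj T (Kos c) p (-1) (p - 1) (by omega) ≫ (T ⊗ Kos c).d (p - 1) p =
    T.d p (p + 1) ▷ (Kos c).X (-1) ≫ ιTensorObj T (Kos c) (p + 1) (-1) p (by omega) +
      p.negOnePow • (T.X p ◁ (Kos c).d (-1) 0 ≫ ιTensorObj T (Kos c) p 0 p (add_zero p)) := by
  change ιMapBifunctor T (Kos c) (curriedTensor (ModuleCat.{u} A)) (ComplexShape.up ℤ) p (-1) (p - 1) _ ≫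
    (mapBifunctor T (Kos c) (curriedTensor (ModuleCat.{u} A)) (ComplexShape.up ℤ)).d (p - 1) p = _
  rw [mapBifunctor.d_eq, Preadditive.comp_add, mapBifunctor.ι_D₁, mapBifunctor.ι_D₂,
    mapBifunctor.d₁_eq T _ _ _ (show (ComplexShape.up ℤ).Rel p (p + 1) from rfl) (-1) p (by dsimp; omega),
    mapBifunctor.d₂_eq T _ _ (ComplexShape.up ℤ) p rel_m1_0 p (by simp)]
  simp

lemma δ_α : δ (-1) 0 (α T c) = Cochain.ofHom ((c • 𝟙 T) ≫ β T c) := by
  ext p
  rw [δ_v (-1) 0 (by norm_num) _ p p (add_zero p) (p - 1) (p + 1) (by omega) rfl]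
  simp only [α, Cochain.mk_v, αc, Cochain.ofHom_v, HomologicalComplex.comp_f, Linear.units_smul_comp,
    Category.assoc, Linear.comp_units_smul, Int.negOnePow_zero, one_smul]
  rw [ι_d, β_f, Preadditive.comp_add, Preadditive.comp_add, smul_add,
    Linear.comp_units_smul, Linear.comp_units_smul, smul_smul, Int.units_mul_self, one_smul,
    Int.negOnePow_succ, Units.neg_smul]
  have h₁ : T.X p ◁ (e₁ c).hom ≫ T.d p (p + 1) ▷ (Kos c).X (-1) =
      T.d p (p + 1) ▷ 𝟙_ (ModuleCat.{u} A) ≫ T.X (p + 1) ◁ (e₁ c).hom := whisker_exchange _ _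
  have h₂ : T.X p ◁ (e₁ c).hom ≫ T.X p ◁ (Kos c).d (-1) 0 = c • (T.X p ◁ (e₀ c).hom) := by
    rw [← MonoidalCategory.whiskerLeft_comp, e₁_d, MonoidalLinear.whiskerLeft_smul]
  rw [reassoc_of% h₁, reassoc_of% h₂, ← rightUnitor_inv_naturality_assoc]
  simp [Linear.smul_comp, Linear.comp_smul]

/-- `cone (c on T) ⟶ T ⊗ Kos c`. -/
noncomputable def θ : CochainComplex.mappingCone (c • 𝟙 T) ⟶ T ⊗ Kos c :=
  CochainComplex.mappingCone.desc _ (α T c) (β T c) (δ_α T c)

/-- The inverse, in one degree. -/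
noncomputable def θinv (n : ℤ) : (T ⊗ Kos c).X n ⟶ (CochainComplex.mappingCone (c • 𝟙 T)).X n :=
  mapBifunctorDesc fun p q h =>
    if hq : q = 0 then
      T.X p ◁ (eqToHom (by rw [hq]) ≫ (e₀ c).inv) ≫ (ρ_ (T.X p)).hom ≫ (T.XIsoOfEq (show p = n by
        subst hq; simpa using h)).hom ≫ (CochainComplex.mappingCone.inr (c • 𝟙 T)).f n
    else if hq' : q = -1 then
      p.negOnePow • (T.X p ◁ (eqToHom (by rw [hq']) ≫ (e₁ c).inv) ≫ (ρ_ (T.X p)).hom ≫
        (CochainComplex.mappingCone.inl (c • 𝟙 T)).v p n (by subst hq'; exact h))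
    else 0

instance isIso_θ : IsIso (θ T c) := by
  have (n : ℤ) : IsIso ((θ T c).f n) := by
    refine ⟨θinv T c n, ?_, ?_⟩
    · apply CochainComplex.mappingCone.ext_from _ (n + 1) n rfl
      · rw [θ, CochainComplex.mappingCone.inl_v_desc_f_assoc, Category.comp_id, α, Cochain.mk_v, αc,
          Linear.units_smul_comp, Category.assoc, Category.assoc]
        erw [ι_mapBifunctorDesc]
        rw [dif_neg (by decide), dif_pos rfl]
        simp [Linear.comp_units_smul, smul_smul]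
      · rw [θ, CochainComplex.mappingCone.inr_f_desc_f_assoc, Category.comp_id, β_f,
          Category.assoc, Category.assoc]
        erw [ι_mapBifunctorDesc]
        rw [dif_pos rfl]
        simp
    · refine mapBifunctor.hom_ext fun p q h => ?_
      erw [ι_mapBifunctorDesc_assoc]
      erw [Category.comp_id]
      by_cases hq : q = 0
      · subst hq
        obtain rfl : p = n := by simpa using h
        rw [dif_pos rfl]
        simp only [Category.assoc, θ, CochainComplex.mappingCone.inr_f_desc_f, β_f]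
        simp
      · by_cases hq' : q = -1
        · subst hq'
          rw [dif_neg (by decide), dif_pos rfl]
          simp only [Category.assoc, θ, Linear.units_smul_comp, CochainComplex.mappingCone.inl_v_desc_f, α,
            Cochain.mk_v, αc, Linear.comp_units_smul, smul_smul, Int.units_mul_self, one_smul]
          simp
        · exact ((Functor.map_isZero _ (Kos_isZero c q hq' hq)).eq_of_src _ _)
  exact HomologicalComplex.Hom.isIso_of_components _

end Theta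

end Groth.Agent.KFlat.Pro
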