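import Groth.Agent.KFlat.Pro.Key
import Groth.Agent.KFlat.DTen
import Groth.Prelude.Def_ega3
import Mathlib.RingTheory.TensorProduct.Basic
import Mathlib.RingTheory.Ideal.Operations

/-!
`K ⊗^L A/I^(n+1) ⟶ K ⊗ A/I^(n+1)` is a pro-isomorphism for a bounded complex of finite modules over a Noetherian ring.
-/

universe u

open CategoryTheory CategoryTheory.Limits MonoidalCategory HomologicalComplex Opposite
attribute [local instance] HasDerivedCategory.standard

namespace Groth.Agent.KFlat.Pro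

variable {A : Type u} [CommRing A]

/-- `ε` identifies `Q(X ⊗ Y)` with the derived tensor product, for a system `Y` of K-flat complexes. -/
noncomputable def εSys [DTen.HasLTen A] [DTen.KFlatComputes A] (X Y : ARSys.PS (DRing.Cx A))
    (hY : ∀ n, DRing.IsKFlat A (Y.obj n)) :
    (X ⋙ DerivedCategory.Q).prod' (Y ⋙ DerivedCategory.Q) ⋙ DTen.LTen₂ A ≅ tns X Y ⋙ DerivedCategory.Q :=
  NatIso.ofComponents
    (fun n => @asIso _ _ _ _ ((DTen.ε A).app (X.obj n, Y.obj n)) (DTen.KFlatComputes.isIso_counit _ _ (Or.inr (hY n))))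
    (fun {m n} f => by
      refine ((DTen.ε A).naturality (Prod.mkHom (X.map f) (Y.map f))).trans ?_
      dsimp [tns]
      rw [← MonoidalCategory.tensorHom_def])

lemma tns_map_left [DTen.HasLTen A] [DTen.KFlatComputes A] {X X' : ARSys.PS (DRing.Cx A)} (g : X ⟶ X')
    (Y : ARSys.PS (DRing.Cx A)) (hY : ∀ n, DRing.IsKFlat A (Y.obj n))
    (hg : DerCA.IsProIso (Functor.whiskerRight g DerivedCategory.Q)) :
    DerCA.IsProIso (Functor.whiskerRight (tnsMap g (𝟙 Y)) DerivedCategory.Q) := by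
  refine iff_of_iso (εSys X Y hY) (εSys X' Y hY) ?_ (map (DTen.LTen₂ A) (pair (Y ⋙ DerivedCategory.Q) hg))
  refine NatTrans.ext (funext fun n => ?_)
  refine (Eq.trans ?_ ((DTen.ε A).naturality (Prod.mkHom (g.app n) (𝟙 (Y.obj n))))).trans ?_
  · dsimp [εSys]
    rw [CategoryTheory.Functor.map_id]
    rfl
  · dsimp [εSys, tnsMap]
    rw [← MonoidalCategory.tensorHom_def]
    rfl

variable {P K : DRing.Cx A}

/-- `P ⊗ S ⟶ K ⊗ S` in the derived category, for a system `S`. -/
noncomputable abbrev η (q : P ⟶ K) : tensorLeft P ⋙ DerivedCategory.Q ⟶ tensorLeft K ⋙ DerivedCategory.Q :=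
  Functor.whiskerRight ((curriedTensor (DRing.Cx A)).map q) DerivedCategory.Q

/-- The property propagated along the induction. -/
def Good (q : P ⟶ K) (S : ARSys.PS (DRing.Cx A)) : Prop := DerCA.IsProIso (Functor.whiskerLeft S (η q))

lemma Good.of_iso {q : P ⟶ K} {S S' : ARSys.PS (DRing.Cx A)} (e : S ≅ S') (h : Good q S) : Good q S' :=
  iff_of_iso (a := Functor.whiskerLeft S (η q)) (Functor.isoWhiskerRight e _) (Functor.isoWhiskerRight e _)
    (NatTrans.ext (funext fun n => ((η q).naturality (e.hom.app n)).symm)) h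

/-- `(K ⊗ S) ⊗ R ≅ K ⊗ (S ⊗ R)` for systems. -/
noncomputable def assocSys (K : DRing.Cx A) (S R : ARSys.PS (DRing.Cx A)) :
    tns (S ⋙ tensorLeft K) R ≅ tns S R ⋙ tensorLeft K :=
  NatIso.ofComponents (fun n => α_ K (S.obj n) (R.obj n)) fun {m n} f => by
    dsimp [tns]
    rw [← MonoidalCategory.id_tensorHom, ← MonoidalCategory.id_tensorHom, MonoidalCategory.associator_naturality]

lemma assocSys_naturality (K : DRing.Cx A) (S : ARSys.PS (DRing.Cx A)) {R R' : ARSys.PS (DRing.Cx A)} (k : R ⟶ R') :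
    tnsMap (𝟙 (S ⋙ tensorLeft K)) k ≫ (assocSys K S R').hom =
      (assocSys K S R).hom ≫ Functor.whiskerRight (tnsMap (𝟙 S) k) (tensorLeft K) := by
  refine NatTrans.ext (funext fun n => ?_)
  change (𝟙 (K ⊗ S.obj n) ⊗ₘ k.app n) ≫ (α_ K (S.obj n) (R'.obj n)).hom =
    (α_ K (S.obj n) (R.obj n)).hom ≫ K ◁ (𝟙 (S.obj n) ⊗ₘ k.app n)
  simp

theorem Good.step [IsNoetherianRing A] [DTen.HasLTen A] [DTen.KFlatComputes A] (a : A) (q : P ⟶ K)
    (hP : DRing.IsKFlat A P) (S : ARSys.PS (DRing.Cx A)) (lo hi : ℤ) (hb : ∀ n, DRing.VanishesOutside (S.obj n) lo hi)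
    (hf : ∀ n i, Module.Finite A ((S.obj n).X i)) (lo' hi' : ℤ)
    (hb' : ∀ n, DRing.VanishesOutside (K ⊗ S.obj n) lo' hi') (hf' : ∀ n i, Module.Finite A ((K ⊗ S.obj n).X i))
    (h : Good q S) : Good q (tns S (RSys a)) := by
  have hK : ∀ n, DRing.IsKFlat A ((KosSys a).obj n) := fun n => isKFlat_Kos _
  have ha : Good q (tns S (KosSys a)) := by
    refine iff_of_iso (Functor.isoWhiskerRight (assocSys P S (KosSys a)) DerivedCategory.Q)
      (Functor.isoWhiskerRight (assocSys K S (KosSys a)) DerivedCategory.Q) ?_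
      (tns_map_left (Functor.whiskerLeft S ((curriedTensor (DRing.Cx A)).map q)) (KosSys a) hK h)
    refine NatTrans.ext (funext fun n => ?_)
    refine ((DerivedCategory.Q.map_comp _ _).symm.trans (congrArg DerivedCategory.Q.map ?_)).trans
      (DerivedCategory.Q.map_comp _ _)
    change (q ▷ S.obj n ⊗ₘ 𝟙 ((KosSys a).obj n)) ≫ (α_ K (S.obj n) ((KosSys a).obj n)).hom =
      (α_ P (S.obj n) ((KosSys a).obj n)).hom ≫ q ▷ (S.obj n ⊗ (KosSys a).obj n)
    simp
  have hb₁ : DerCA.IsProIso (Functor.whiskerRight (tnsMap (𝟙 S) (κSys a)) (tensorLeft P ⋙ DerivedCategory.Q)) := by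
    have : IsIso (DTen.εLeft A P) := by
      have (L : DRing.Cx A) : IsIso ((DTen.εLeft A P).app L) :=
        DTen.KFlatComputes.isIso_counit P L (Or.inl hP)
      exact NatIso.isIso_of_isIso_app _
    refine iff_of_iso (Functor.isoWhiskerLeft (tns S (KosSys a)) (asIso (DTen.εLeft A P)))
      (Functor.isoWhiskerLeft (tns S (RSys a)) (asIso (DTen.εLeft A P))) ?_
      (map ((DTen.LTen A).obj (DerivedCategory.Q.obj P)) (isProIso_κ a S lo hi hb hf))
    exact NatTrans.ext (funext fun n => (DTen.εLeft A P).naturality ((tnsMap (𝟙 S) (κSys a)).app n))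
  have hb₂ : DerCA.IsProIso (Functor.whiskerRight (tnsMap (𝟙 S) (κSys a)) (tensorLeft K ⋙ DerivedCategory.Q)) := by
    refine iff_of_iso (Functor.isoWhiskerRight (assocSys K S (KosSys a)) DerivedCategory.Q)
      (Functor.isoWhiskerRight (assocSys K S (RSys a)) DerivedCategory.Q) ?_
      (isProIso_κ a (S ⋙ tensorLeft K) lo' hi' hb' hf')
    refine NatTrans.ext (funext fun n => ?_)
    exact ((DerivedCategory.Q.map_comp _ _).symm.trans
      (congrArg DerivedCategory.Q.map (congrArg (fun t => t.app n) (assocSys_naturality K S (κSys a))))).trans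
      (DerivedCategory.Q.map_comp _ _)
  refine of_comp_left hb₁ ?_
  have : Functor.whiskerRight (tnsMap (𝟙 S) (κSys a)) (tensorLeft P ⋙ DerivedCategory.Q) ≫
      Functor.whiskerLeft (tns S (RSys a)) (η q) =
      Functor.whiskerLeft (tns S (KosSys a)) (η q) ≫
        Functor.whiskerRight (tnsMap (𝟙 S) (κSys a)) (tensorLeft K ⋙ DerivedCategory.Q) :=
    NatTrans.ext (funext fun n => (η q).naturality ((tnsMap (𝟙 S) (κSys a)).app n))
  rw [this]
  exact comp ha hb₂

section Modules

/-- `(A/J)[0]` as a system. -/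
noncomputable abbrev QCx (J : ℕ → Ideal A) (hJ : Antitone J) : ARSys.PS (DRing.Cx A) :=
  Qsys J hJ ⋙ single (ModuleCat.{u} A) (ComplexShape.up ℤ) 0

/-- `M[0] ⊗ N[0] ≅ (M ⊗ N)[0]`. -/
noncomputable def μ (M N : ModuleCat.{u} A) :
    (single (ModuleCat.{u} A) (ComplexShape.up ℤ) 0).obj M ⊗ (single (ModuleCat.{u} A) (ComplexShape.up ℤ) 0).obj N ≅
      (single (ModuleCat.{u} A) (ComplexShape.up ℤ) 0).obj (M ⊗ N) :=
  (singleIso (curriedTensor (ModuleCat.{u} A)) _ N).symm ≪≫
    (singleMapHomologicalComplex ((curriedTensor (ModuleCat.{u} A)).flip.obj N) (ComplexShape.up ℤ) 0).app M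

lemma μ_inv_f (M N : ModuleCat.{u} A) : (μ M N).inv.f 0 =
    (singleObjXSelf (ComplexShape.up ℤ) 0 (M ⊗ N)).hom ≫
      ((singleObjXSelf (ComplexShape.up ℤ) 0 M).inv ⊗ₘ (singleObjXSelf (ComplexShape.up ℤ) 0 N).inv) ≫
        ιTensorObj _ _ 0 0 0 (add_zero 0) := by
  rw [μ, Iso.trans_inv, Iso.symm_inv, Iso.app_inv, HomologicalComplex.comp_f,
    singleMapHomologicalComplex_inv_app_self, MonoidalCategory.tensorHom_def]
  simp [singleIso, singleX]
  rfl

lemma μ_naturality {M M' N N' : ModuleCat.{u} A} (f : M ⟶ M') (g : N ⟶ N') :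
    (μ M N).inv ≫ ((single (ModuleCat.{u} A) (ComplexShape.up ℤ) 0).map f ⊗ₘ
      (single (ModuleCat.{u} A) (ComplexShape.up ℤ) 0).map g) =
      (single (ModuleCat.{u} A) (ComplexShape.up ℤ) 0).map (f ⊗ₘ g) ≫ (μ M' N').inv := by
  apply from_single_hom_ext
  rw [HomologicalComplex.comp_f, HomologicalComplex.comp_f, μ_inv_f, μ_inv_f, single_map_f_self]
  simp only [Category.assoc, Iso.inv_hom_id_assoc, ι_tensorHom, MonoidalCategory.tensorHom_comp_tensorHom_assoc,
    single_map_f_self, Iso.inv_hom_id_assoc]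

variable (J J' : Ideal A)

/-- Multiplication `A/J ⊗ A/J' ⟶ A/(J+J')`. -/
noncomputable def qqHom : TensorProduct A (A ⧸ J) (A ⧸ J') →ₗ[A] A ⧸ (J ⊔ J') :=
  LinearMap.mul' A (A ⧸ (J ⊔ J')) ∘ₗ
    TensorProduct.map (Submodule.factor (le_sup_left : J ≤ J ⊔ J')) (Submodule.factor (le_sup_right : J' ≤ J ⊔ J'))

lemma qqHom_tmul (x y : A) : qqHom J J' (Ideal.Quotient.mk J x ⊗ₜ[A] Ideal.Quotient.mk J' y) =
    Ideal.Quotient.mk (J ⊔ J') (x * y) := rfl

/-- The inverse of `qqHom`. -/
noncomputable def qqInv : A ⧸ (J ⊔ J') →ₗ[A] TensorProduct A (A ⧸ J) (A ⧸ J') :=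
  Submodule.liftQ _ (LinearMap.toSpanSingleton A _ ((1 : A ⧸ J) ⊗ₜ[A] (1 : A ⧸ J'))) (sup_le
    (fun j hj => by
      rw [LinearMap.mem_ker, LinearMap.toSpanSingleton_apply, TensorProduct.smul_tmul']
      have : j • (1 : A ⧸ J) = 0 := by
        rw [Algebra.smul_def, mul_one]
        exact (Ideal.Quotient.eq_zero_iff_mem).2 hj
      rw [this, TensorProduct.zero_tmul])
    (fun j hj => by
      rw [LinearMap.mem_ker, LinearMap.toSpanSingleton_apply, ← TensorProduct.tmul_smul]
      have : j • (1 : A ⧸ J') = 0 := by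
        rw [Algebra.smul_def, mul_one]
        exact (Ideal.Quotient.eq_zero_iff_mem).2 hj
      rw [this, TensorProduct.tmul_zero]))

/-- `A/J ⊗ A/J' ≅ A/(J+J')`. -/
noncomputable def qq : ModuleCat.of A (A ⧸ J) ⊗ ModuleCat.of A (A ⧸ J') ≅ ModuleCat.of A (A ⧸ (J ⊔ J')) :=
  LinearEquiv.toModuleIso (LinearEquiv.ofLinearMap (qqHom J J') (qqInv J J')
    (by
      refine Submodule.linearMap_qext _ (LinearMap.ext_ring ?_)
      change qqHom J J' ((1 : A) • ((Ideal.Quotient.mk J 1) ⊗ₜ[A] (Ideal.Quotient.mk J' 1))) = _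
      rw [one_smul, qqHom_tmul, one_mul]
      rfl)
    (by
      refine TensorProduct.ext' fun x y => ?_
      obtain ⟨x, rfl⟩ := Ideal.Quotient.mk_surjective x
      obtain ⟨y, rfl⟩ := Ideal.Quotient.mk_surjective y
      rw [LinearMap.comp_apply, qqHom_tmul, LinearMap.id_apply]
      change (x * y) • ((1 : A ⧸ J) ⊗ₜ[A] (1 : A ⧸ J')) = _
      rw [mul_smul, ← TensorProduct.tmul_smul, TensorProduct.smul_tmul', Algebra.smul_def, Algebra.smul_def,
        mul_one, mul_one]
      rfl))

end Modules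

lemma antitone_sup {J J' : ℕ → Ideal A} (h : Antitone J) (h' : Antitone J') : Antitone fun n => J n ⊔ J' n :=
  fun _ _ l => sup_le_sup (h l) (h' l)

/-- Adding one generator at the level of systems. -/
noncomputable def supSys (J : ℕ → Ideal A) (hJ : Antitone J) (a : A) :
    tns (QCx J hJ) (RSys a) ≅ QCx (fun n => J n ⊔ Ideal.span {a ^ (n + 1)}) (antitone_sup hJ (antitone_span_pow a)) :=
  NatIso.ofComponents
    (fun n => μ (ModuleCat.of A (A ⧸ J n.unop)) (ModuleCat.of A (A ⧸ Ideal.span {a ^ (n.unop + 1)})) ≪≫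
      (single (ModuleCat.{u} A) (ComplexShape.up ℤ) 0).mapIso (qq (J n.unop) (Ideal.span {a ^ (n.unop + 1)})))
    fun {m n} f => by
      let f₁ : ModuleCat.of A (A ⧸ J m.unop) ⟶ ModuleCat.of A (A ⧸ J n.unop) :=
        ModuleCat.ofHom (Submodule.factor (hJ (leOfHom f.unop)))
      let f₂ : ModuleCat.of A (A ⧸ Ideal.span {a ^ (m.unop + 1)}) ⟶ ModuleCat.of A (A ⧸ Ideal.span {a ^ (n.unop + 1)}) :=
        ModuleCat.ofHom (Submodule.factor (antitone_span_pow a (leOfHom f.unop)))
      let f₃ : ModuleCat.of A (A ⧸ (J m.unop ⊔ Ideal.span {a ^ (m.unop + 1)})) ⟶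
          ModuleCat.of A (A ⧸ (J n.unop ⊔ Ideal.span {a ^ (n.unop + 1)})) :=
        ModuleCat.ofHom (Submodule.factor (antitone_sup hJ (antitone_span_pow a) (leOfHom f.unop)))
      have hq : (f₁ ⊗ₘ f₂) ≫ (qq _ _).hom = (qq _ _).hom ≫ f₃ := by
        refine ModuleCat.MonoidalCategory.tensor_ext fun x y => ?_
        obtain ⟨x, rfl⟩ := Ideal.Quotient.mk_surjective x
        obtain ⟨y, rfl⟩ := Ideal.Quotient.mk_surjective y
        change qqHom _ _ (Ideal.Quotient.mk (J n.unop) x ⊗ₜ[A] Ideal.Quotient.mk (Ideal.span {a ^ (n.unop + 1)}) y) =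
          Submodule.factor (antitone_sup hJ (antitone_span_pow a) (leOfHom f.unop))
            (qqHom _ _ (Ideal.Quotient.mk (J m.unop) x ⊗ₜ[A] Ideal.Quotient.mk (Ideal.span {a ^ (m.unop + 1)}) y))
        rw [qqHom_tmul, qqHom_tmul]
        rfl
      let S0 := single (ModuleCat.{u} A) (ComplexShape.up ℤ) 0
      have hμ : (S0.map f₁ ⊗ₘ S0.map f₂) ≫ (μ _ _).hom = (μ _ _).hom ≫ S0.map (f₁ ⊗ₘ f₂) := by
        rw [← Iso.inv_comp_eq, ← Category.assoc, μ_naturality, Category.assoc, Iso.inv_hom_id, Category.comp_id]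
      change (S0.map f₁ ⊗ₘ S0.map f₂) ≫ (μ _ _).hom ≫ S0.map (qq _ _).hom =
        ((μ _ _).hom ≫ S0.map (qq _ _).hom) ≫ S0.map f₃
      rw [reassoc_of% hμ, Category.assoc, ← Functor.map_comp, hq, Functor.map_comp]

/-- The ideals generated by the `(n+1)`-st powers of the members of a list. -/
def Jl : List A → ℕ → Ideal A
  | [], _ => ⊥
  | a :: l, n => Jl l n ⊔ Ideal.span {a ^ (n + 1)}

lemma antitone_Jl : ∀ l : List A, Antitone (Jl l)
  | [] => fun _ _ _ => le_rfl
  | a :: l => antitone_sup (antitone_Jl l) (antitone_span_pow a)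

lemma QCx_vanishes (J : ℕ → Ideal A) (hJ : Antitone J) (n : ℕᵒᵖ) : DRing.VanishesOutside ((QCx J hJ).obj n) 0 0 :=
  fun i hi => isZero_single_obj_X _ _ _ _ (by omega)

lemma QCx_finite (J : ℕ → Ideal A) (hJ : Antitone J) (n : ℕᵒᵖ) (i : ℤ) : Module.Finite A (((QCx J hJ).obj n).X i) := by
  by_cases h : i = 0
  · subst h
    have : Module.Finite A (ModuleCat.of A (A ⧸ J n.unop)) := inferInstanceAs (Module.Finite A (A ⧸ J n.unop))
    exact Module.Finite.equiv (singleObjXSelf (ComplexShape.up ℤ) 0 (ModuleCat.of A (A ⧸ J n.unop))).toLinearEquiv.symm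
  · have : Subsingleton (((QCx J hJ).obj n).X i) := ModuleCat.subsingleton_of_isZero (isZero_single_obj_X _ _ _ _ h)
    infer_instance

lemma tensor_single_vanishes (M : ModuleCat.{u} A) (lo hi : ℤ) (hK : DRing.VanishesOutside K lo hi) :
    DRing.VanishesOutside (K ⊗ (single (ModuleCat.{u} A) (ComplexShape.up ℤ) 0).obj M) lo hi := fun i hi =>
  IsZero.of_iso (Functor.map_isZero ((curriedTensor (ModuleCat.{u} A)).flip.obj M) (hK i hi))
    (singleX (curriedTensor (ModuleCat.{u} A)) K M i).symm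

lemma tensor_single_finite (M : ModuleCat.{u} A) [Module.Finite A M] (hK : ∀ i, Module.Finite A (K.X i)) (i : ℤ) :
    Module.Finite A ((K ⊗ (single (ModuleCat.{u} A) (ComplexShape.up ℤ) 0).obj M).X i) := by
  have := hK i
  have : Module.Finite A (TensorProduct A (K.X i) M) := inferInstance
  exact @Module.Finite.equiv A _ _ _ _ _ _ _ this (singleX (curriedTensor (ModuleCat.{u} A)) K M i).toLinearEquiv

theorem good_Jl [IsNoetherianRing A] [DTen.HasLTen A] [DTen.KFlatComputes A] (q : P ⟶ K) (hq : QuasiIso q)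
    (hP : DRing.IsKFlat A P) (lo hi : ℤ) (hK : DRing.VanishesOutside K lo hi)
    (hKf : ∀ i : ℤ, Module.Finite A (K.X i)) : ∀ l : List A, Good q (QCx (Jl l) (antitone_Jl l))
  | [] => by
    refine of_isIso _ fun n => ?_
    let e : (QCx (Jl ([] : List A)) (antitone_Jl [])).obj (op n) ≅ 𝟙_ (DRing.Cx A) :=
      (single (ModuleCat.{u} A) (ComplexShape.up ℤ) 0).mapIso
        (LinearEquiv.toModuleIso (Submodule.quotEquivOfEqBot (⊥ : Ideal A) rfl))
    have hf : DRing.IsKFlat A ((QCx (Jl ([] : List A)) (antitone_Jl [])).obj (op n)) :=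
      ((isKFlat_iff A _).1 Groth.Agent.KFlat.isKFlat_unit).of_iso _ e.symm
    exact isIso_Q_map _ (quasiIso_whiskerRight hf q hq)
  | a :: l => by
    refine Good.of_iso (supSys (Jl l) (antitone_Jl l) a) ?_
    refine Good.step a q hP _ 0 0 (QCx_vanishes _ _) (QCx_finite _ _) lo hi
      (fun n => tensor_single_vanishes _ lo hi hK) (fun n i => ?_) (good_Jl q hq hP lo hi hK hKf l)
    have : Module.Finite A ((Qsys (Jl l) (antitone_Jl l)).obj n) := inferInstanceAs (Module.Finite A (A ⧸ Jl l n.unop))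
    exact tensor_single_finite _ hKf i

/-- `A/I^(n+1)` as in the statement, compared with `QCx`. -/
lemma isProIso_adic_comparison (I : Ideal A) (l : List A) (hl : Ideal.span {x | x ∈ l} = I) :
    ∃ a : Qsys (Jl l) (antitone_Jl l) ⟶ CohIII.adicSystem I (ModuleCat.of A A), DerCA.IsProIso a := by
  have hmem : ∀ x ∈ l, x ∈ I := fun x hx => hl ▸ Ideal.subset_span hx
  have hle : ∀ n, Jl l n ≤ (I ^ (n + 1) • ⊤ : Submodule A A) := by
    intro n
    rw [Ideal.smul_eq_mul, Ideal.mul_top]
    clear hl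
    induction l with
    | nil => exact bot_le
    | cons a t ih =>
      refine sup_le (ih fun x hx => hmem x (List.mem_cons_of_mem _ hx)) ?_
      rw [Ideal.span_singleton_le_iff_mem]
      exact Ideal.pow_mem_pow (hmem a List.mem_cons_self) _
  have hsq : ∀ n : ℕ, ModuleCat.ofHom (Submodule.factor (antitone_Jl l (Nat.le_succ n))) ≫
      ModuleCat.ofHom (Submodule.factor (hle n)) =
      ModuleCat.ofHom (Submodule.factor (hle (n + 1))) ≫
        ModuleCat.ofHom (Submodule.factor (Submodule.smul_mono_left (Ideal.pow_le_pow_right (Nat.le_succ (n + 1))))) :=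
    fun n => by ext; rfl
  let a : Qsys (Jl l) (antitone_Jl l) ⟶ CohIII.adicSystem I (ModuleCat.of A A) :=
    NatTrans.ofOpSequence (fun n => ModuleCat.ofHom (Submodule.factor (hle n))) (fun n => by
      refine (hsq n).trans ?_
      exact congrArg _ (Functor.ofOpSequence_map_homOfLE_succ
        (X := fun n => ModuleCat.of A (A ⧸ (I ^ (n + 1) • (⊤ : Submodule A A))))
        (fun n => ModuleCat.ofHom (Submodule.factor
          (Submodule.smul_mono_left (Ideal.pow_le_pow_right (Nat.le_succ (n + 1)))))) n).symm)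
  refine ⟨a, fun n => ?_⟩
  have hrad : I ≤ (Jl l n).radical := by
    rw [← hl, Ideal.span_le]
    intro x hx
    refine ⟨n + 1, ?_⟩
    have : ∀ t : List A, x ∈ t → x ^ (n + 1) ∈ Jl t n := by
      intro t
      induction t with
      | nil => intro h; exact absurd h List.not_mem_nil
      | cons b t ih =>
        intro h
        rcases List.mem_cons.1 h with rfl | h
        · exact Ideal.mem_sup_right (Ideal.mem_span_singleton_self _)
        · exact Ideal.mem_sup_left (ih h)
    exact this l hx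
  have hfg : I.FG := by
    classical
    exact ⟨l.toFinset, by simpa using hl⟩
  obtain ⟨k, hk⟩ := Ideal.exists_pow_le_of_le_radical_of_fg hrad hfg
  have hk' : (I ^ (n + k + 1) • ⊤ : Submodule A A) ≤ Jl l n := by
    rw [Ideal.smul_eq_mul, Ideal.mul_top]
    exact le_trans (Ideal.pow_le_pow_right (by omega)) hk
  refine ⟨n + k, Nat.le_add_right n k, ModuleCat.ofHom (Submodule.factor hk'), ?_, ?_⟩
  · refine ModuleCat.hom_ext (LinearMap.ext fun x => ?_)
    obtain ⟨y, rfl⟩ := Submodule.Quotient.mk_surjective _ x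
    rfl
  · have key : ∀ m (h : n ≤ m), ∀ x : A, (ARSys.tr (CohIII.adicSystem I (ModuleCat.of A A)) h).hom
        (Submodule.Quotient.mk x) = Submodule.Quotient.mk x := by
      intro m h
      induction m, h using Nat.le_induction with
      | base => intro x; simp [ARSys.tr]
      | succ m h ih =>
        intro x
        rw [← tr_comp (CohIII.adicSystem I (ModuleCat.of A A)) h (Nat.le_succ m)]
        change (ARSys.tr (CohIII.adicSystem I (ModuleCat.of A A)) h).hom
          ((ARSys.tr (CohIII.adicSystem I (ModuleCat.of A A)) (Nat.le_succ m)).hom (Submodule.Quotient.mk x)) = _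
        have : (ARSys.tr (CohIII.adicSystem I (ModuleCat.of A A)) (Nat.le_succ m)).hom (Submodule.Quotient.mk x) =
            Submodule.Quotient.mk x := by
          rw [ARSys.tr]
          exact congrArg (fun z => z.hom (Submodule.Quotient.mk x)) (Functor.ofOpSequence_map_homOfLE_succ
            (X := fun n => ModuleCat.of A (A ⧸ (I ^ (n + 1) • (⊤ : Submodule A A))))
            (fun n => ModuleCat.ofHom (Submodule.factor
              (Submodule.smul_mono_left (Ideal.pow_le_pow_right (Nat.le_succ (n + 1)))))) m)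
        rw [this]
        exact ih x
    refine ModuleCat.hom_ext (LinearMap.ext fun x => ?_)
    obtain ⟨y, rfl⟩ := Submodule.Quotient.mk_surjective _ x
    exact (key (n + k) (Nat.le_add_right n k) y).symm

theorem isProIso_η [IsNoetherianRing A] [DTen.HasLTen A] [DTen.KFlatComputes A] (I : Ideal A) (K : DRing.Cx A)
    (lo hi : ℤ) (hK : DRing.VanishesOutside K lo hi) (hKf : ∀ i : ℤ, Module.Finite A (K.X i))
    {P : DRing.Cx A} (q : P ⟶ K) (hP : DRing.IsKFlat A P) (hq : QuasiIso q) :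
    DerCA.IsProIso (Functor.whiskerLeft
      (CohIII.adicSystem I (ModuleCat.of A A) ⋙ single (ModuleCat.{u} A) (ComplexShape.up ℤ) 0) (η q)) := by
  classical
  obtain ⟨s, hs⟩ := IsNoetherian.noetherian I
  obtain ⟨c, hc⟩ := isProIso_adic_comparison I s.toList (by simpa using hs)
  let S := CohIII.adicSystem I (ModuleCat.of A A) ⋙ single (ModuleCat.{u} A) (ComplexShape.up ℤ) 0
  let a : QCx (Jl s.toList) (antitone_Jl _) ⟶ S := Functor.whiskerRight c (single (ModuleCat.{u} A) (ComplexShape.up ℤ) 0)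
  have hεP : IsIso (DTen.εLeft A P) := by
    have (L : DRing.Cx A) : IsIso ((DTen.εLeft A P).app L) :=
      DTen.KFlatComputes.isIso_counit P L (Or.inl hP)
    exact NatIso.isIso_of_isIso_app _
  refine of_comp_left (a := Functor.whiskerRight a (tensorLeft P ⋙ DerivedCategory.Q)) ?_ ?_
  · refine iff_of_iso (Functor.isoWhiskerLeft (QCx (Jl s.toList) (antitone_Jl _)) (asIso (DTen.εLeft A P)))
      (Functor.isoWhiskerLeft S (asIso (DTen.εLeft A P))) ?_
      (map ((DTen.LTen A).obj (DerivedCategory.Q.obj P)) (map DerivedCategory.Q (map (single _ _ 0) hc)))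
    exact NatTrans.ext (funext fun n => (DTen.εLeft A P).naturality (a.app n))
  · have : Functor.whiskerRight a (tensorLeft P ⋙ DerivedCategory.Q) ≫ Functor.whiskerLeft S (η q) =
        Functor.whiskerLeft (QCx (Jl s.toList) (antitone_Jl _)) (η q) ≫
          Functor.whiskerRight a (tensorLeft K ⋙ DerivedCategory.Q) :=
      NatTrans.ext (funext fun n => (η q).naturality (a.app n))
    rw [this]
    refine comp (good_Jl q hq hP lo hi hK hKf _) ?_
    exact map (tensorLeft K ⋙ DerivedCategory.Q) (map (single _ _ 0) hc)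

theorem isProIso_εLeft [IsNoetherianRing A] [DTen.HasLTen A] [DTen.KFlatComputes A] (I : Ideal A) (K : DRing.Cx A)
    (lo hi : ℤ) (hK : DRing.VanishesOutside K lo hi) (hKf : ∀ i : ℤ, Module.Finite A (K.X i)) :
    DerCA.IsProIso (Functor.whiskerLeft
      (CohIII.adicSystem I (ModuleCat.of A A) ⋙ single (ModuleCat.{u} A) (ComplexShape.up ℤ) 0)
      (DTen.εLeft A K)) := by
  obtain ⟨P, q, hP, hq⟩ := Groth.Agent.KFlat.exists_kFlat_resolution A K
  let S := CohIII.adicSystem I (ModuleCat.of A A) ⋙ single (ModuleCat.{u} A) (ComplexShape.up ℤ) 0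
  have hη : DerCA.IsProIso (Functor.whiskerLeft S (η q)) := isProIso_η I K lo hi hK hKf q hP hq
  have hεP : IsIso (DTen.εLeft A P) := by
    have (L : DRing.Cx A) : IsIso ((DTen.εLeft A P).app L) :=
      DTen.KFlatComputes.isIso_counit P L (Or.inl hP)
    exact NatIso.isIso_of_isIso_app _
  have : IsIso (DerivedCategory.Q.map q) := Groth.Agent.KFlat.isIso_Q_map q hq
  refine of_comp_left (a := Functor.whiskerLeft S
    (Functor.whiskerLeft DerivedCategory.Q ((DTen.LTen A).map (DerivedCategory.Q.map q)))) ?_ ?_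
  · exact of_isIso _ fun n => inferInstanceAs
      (IsIso (((DTen.LTen A).map (DerivedCategory.Q.map q)).app (DerivedCategory.Q.obj (S.obj (op n)))))
  · have : Functor.whiskerLeft S (Functor.whiskerLeft DerivedCategory.Q ((DTen.LTen A).map (DerivedCategory.Q.map q))) ≫
        Functor.whiskerLeft S (DTen.εLeft A K) =
        Functor.whiskerLeft S (DTen.εLeft A P) ≫ Functor.whiskerLeft S (η q) := by
      refine NatTrans.ext (funext fun n => ?_)
      refine (Eq.trans ?_ ((DTen.ε A).naturality (Prod.mkHom q (𝟙 (S.obj n))))).trans ?_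
      · dsimp [DTen.εLeft]
        rw [CategoryTheory.Functor.map_id]
      · dsimp [DTen.εLeft]
        simp
    rw [this]
    exact comp (of_isIso _ fun n => inferInstanceAs (IsIso ((DTen.εLeft A P).app (S.obj (op n))))) hη

end Groth.Agent.KFlat.Pro
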