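import Groth.Agent.KFlat.Pro.Basic
import Groth.Prelude.Def_CohDer
import Mathlib.CategoryTheory.Triangulated.Pretriangulated

/-!
A levelwise map of systems with pro-zero cones is a pro-isomorphism.
-/

universe v u

open CategoryTheory CategoryTheory.Limits Opposite CategoryTheory.Pretriangulated

namespace Groth.Agent.KFlat.Pro

variable {D : Type u} [Category.{v} D] [Preadditive D] [HasZeroObject D] [HasShift D ℤ]
    [∀ n : ℤ, (shiftFunctor D n).Additive] [Pretriangulated D]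

theorem of_isProZero_third (X Y Z : ARSys.PS D) (f : X ⟶ Y) (g : Y ⟶ Z) (h : Z ⟶ X ⋙ shiftFunctor D (1 : ℤ))
    (hT : ∀ n : ℕ, Triangle.mk (f.app (op n)) (g.app (op n)) (h.app (op n)) ∈ distinguishedTriangles)
    (hZ : DerCA.IsProZero Z) : DerCA.IsProIso f := by
  intro n
  obtain ⟨k, hk, hkz⟩ := hZ n
  obtain ⟨m, hm, hmz⟩ := hZ k
  obtain ⟨b₀', hb₀⟩ := Triangle.coyoneda_exact₂ _ (hT k) (ARSys.tr Y hm)
    (show ARSys.tr Y hm ≫ g.app (op k) = 0 by rw [tr_naturality, hmz, comp_zero])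
  let b₀ : Y.obj (op m) ⟶ X.obj (op k) := b₀'
  change ARSys.tr Y hm = b₀ ≫ f.app (op k) at hb₀
  have hd : (f.app (op m) ≫ b₀ - ARSys.tr X hm) ≫ f.app (op k) = 0 := by
    rw [Preadditive.sub_comp, Category.assoc, ← hb₀, tr_naturality, sub_self]
  obtain ⟨e, he⟩ := Triangle.coyoneda_exact₂ _ (inv_rot_of_distTriang _ (hT k)) (f.app (op m) ≫ b₀ - ARSys.tr X hm) hd
  let φ : Triangle.mk (f.app (op k)) (g.app (op k)) (h.app (op k)) ⟶
      Triangle.mk (f.app (op n)) (g.app (op n)) (h.app (op n)) :=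
    Triangle.homMk _ _ (ARSys.tr X hk) (ARSys.tr Y hk) (ARSys.tr Z hk)
      (tr_naturality f hk).symm (tr_naturality g hk).symm (tr_naturality h hk).symm
  let ik : (Z.obj (op k))⟦(-1 : ℤ)⟧ ⟶ X.obj (op k) :=
    (Triangle.mk (f.app (op k)) (g.app (op k)) (h.app (op k))).invRotate.mor₁
  let i_n : (Z.obj (op n))⟦(-1 : ℤ)⟧ ⟶ X.obj (op n) :=
    (Triangle.mk (f.app (op n)) (g.app (op n)) (h.app (op n))).invRotate.mor₁
  let e' : X.obj (op m) ⟶ (Z.obj (op k))⟦(-1 : ℤ)⟧ := e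
  have he' : f.app (op m) ≫ b₀ - ARSys.tr X hm = e' ≫ ik := he
  have hc : ik ≫ ARSys.tr X hk = (ARSys.tr Z hk)⟦(-1 : ℤ)⟧' ≫ i_n := ((invRotate D).map φ).comm₁
  refine ⟨m, hk.trans hm, b₀ ≫ ARSys.tr X hk, ?_, ?_⟩
  · rw [← sub_eq_zero, ← tr_comp X hk hm, ← Category.assoc, ← Preadditive.sub_comp, he', Category.assoc, hc, hkz,
      Functor.map_zero, zero_comp, comp_zero]
  · rw [Category.assoc, tr_naturality, ← Category.assoc, ← hb₀, tr_comp]

end Groth.Agent.KFlat.Pro
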